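import Cfsg.Agent.Lib.BinaryAffine.Main
import Mathlib.GroupTheory.GroupAction.Primitive
import Mathlib.RingTheory.Norm.Transitivity
import Mathlib.FieldTheory.Finite.GaloisField

/-!
Binary primitive groups of affine type.
-/

set_option linter.unusedSectionVars false

namespace Cfsg.Agent.Lib.BinaryAffine

universe u v

variable {G : Type u} {Ω : Type v} [Group G] [Finite G] [MulAction G Ω] [FaithfulSMul G Ω]
  [Fintype Ω]

/-- The affine norm-one group of a quadratic field extension. -/
def IsAnisotropicPlane (G : Type u) (Ω : Type v) [Group G] [MulAction G Ω] : Prop :=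
  ∃ (F E : Type) (_ : Field F) (_ : Fintype F) (_ : Field E) (_ : Fintype E) (_ : Algebra F E)
    (e : Ω ≃ E), Module.finrank F E = 2 ∧
      ∀ σ : Equiv.Perm Ω, σ ∈ (MulAction.toPermHom G Ω).range ↔
        ∃ (a b : E) (φ : E ≃ₐ[F] E), Algebra.norm F a = 1 ∧ ∀ ω : Ω, e (σ ω) = a * φ (e ω) + b

theorem exists_fixed_field {E : Type} [Field E] [Fintype E] (σ : E ≃+* E) (hσ : ∀ x, σ (σ x) = x)
    (hne : ∃ x, σ x ≠ x) :
    ∃ (F : Subfield E) (τ : E ≃ₐ[F] E), (∀ x, τ x = σ x) ∧ Module.finrank F E = 2 ∧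
      (∀ φ : E ≃ₐ[F] E, φ = AlgEquiv.refl ∨ φ = τ) ∧
      ∀ a : E, Algebra.norm F a = 1 ↔ a * σ a = 1 := by
  classical
  let F : Subfield E :=
    { carrier := {x | σ x = x}
      one_mem' := map_one σ
      zero_mem' := map_zero σ
      mul_mem' := fun {a b} (ha : σ a = a) (hb : σ b = b) => by
        show σ (a * b) = a * b
        rw [map_mul, ha, hb]
      add_mem' := fun {a b} (ha : σ a = a) (hb : σ b = b) => by
        show σ (a + b) = a + b
        rw [map_add, ha, hb]
      neg_mem' := fun {a} (ha : σ a = a) => by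
        show σ (-a) = -a
        rw [map_neg, ha]
      inv_mem' := fun a (ha : σ a = a) => by
        show σ a⁻¹ = a⁻¹
        rw [map_inv₀, ha] }
  have hF : ∀ x : E, x ∈ F ↔ σ x = x := fun x => Iff.rfl
  let τ : E ≃ₐ[F] E := AlgEquiv.ofRingEquiv (f := σ) fun r => r.2
  obtain ⟨μ, hμ⟩ := hne
  have hδ : μ - σ μ ≠ 0 := sub_ne_zero.mpr (Ne.symm hμ)
  have hspan : ∀ x : E, ∃ r s : F, (r : E) + (s : E) * μ = x := by
    intro x
    set s := (x - σ x) / (μ - σ μ) with hs
    have hσs : σ s = s := by
      rw [hs, map_div₀, map_sub, map_sub, hσ, hσ, ← neg_sub x, ← neg_sub μ, neg_div_neg_eq]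
    have hr : σ (x - s * μ) = x - s * μ := by
      rw [map_sub, map_mul, hσs]
      have : s * (μ - σ μ) = x - σ x := by rw [hs, div_mul_cancel₀ _ hδ]
      linear_combination this
    exact ⟨⟨x - s * μ, hr⟩, ⟨s, hσs⟩, sub_add_cancel _ _⟩
  have hind : LinearIndependent F ![(1 : E), μ] := by
    rw [LinearIndependent.pair_iff]
    intro r s h
    have h0 : (r : E) + (s : E) * μ = 0 := by simpa [Subfield.smul_def] using h
    have hs0 : s = 0 := by
      by_contra hs
      have hs' : (s : E) ≠ 0 := fun e => hs (Subtype.ext e)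
      apply hμ
      have : μ = -(r : E) / s := by rw [eq_div_iff hs']; linear_combination h0
      rw [this, map_div₀, map_neg, (hF _).mp r.2, (hF _).mp s.2]
    exact ⟨Subtype.ext (by simpa [hs0] using h0), hs0⟩
  let bs : Module.Basis (Fin 2) F E := Module.Basis.mk hind (fun x _ => by
    obtain ⟨r, s, rfl⟩ := hspan x
    refine add_mem ?_ ?_
    · have : (r : E) = r • (1 : E) := by simp [Subfield.smul_def]
      rw [this]
      exact Submodule.smul_mem _ _ (Submodule.subset_span ⟨0, rfl⟩)
    · exact Submodule.smul_mem _ s (Submodule.subset_span ⟨1, rfl⟩))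
  have hdim : Module.finrank F E = 2 := by simpa using Module.finrank_eq_card_basis bs
  have : FiniteDimensional F E := bs.finiteDimensional_of_finite
  have hgal : IsGalois F E := inferInstance
  have hτ1 : τ ≠ AlgEquiv.refl := fun e => hμ (by
    have := congrArg (fun f : E ≃ₐ[F] E => f μ) e
    exact this)
  have huniv : (Finset.univ : Finset (E ≃ₐ[F] E)) = {AlgEquiv.refl, τ} := by
    symm
    refine Finset.eq_univ_of_card _ ?_
    rw [Finset.card_pair (Ne.symm hτ1), ← Nat.card_eq_fintype_card]
    exact ((IsGalois.card_aut_eq_finrank F E).trans hdim).symm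
  refine ⟨F, τ, fun _ => rfl, hdim, fun φ => by
    simpa [huniv] using Finset.mem_univ φ, fun a => ?_⟩
  have hn : algebraMap F E (Algebra.norm F a) = a * σ a := by
    rw [Algebra.norm_eq_prod_automorphisms, huniv, Finset.prod_pair (Ne.symm hτ1)]
    rfl
  rw [← hn]
  exact (FaithfulSMul.algebraMap_injective F E).eq_iff.symm.trans (by rw [map_one])

theorem binary_affine (hprim : MulAction.IsPreprimitive G Ω)
    (haff : ∃ N : Subgroup G, N.Normal ∧ N ≠ ⊥ ∧ IsMulCommutative ↥N)
    (hbin : ∀ (n : ℕ) (I J : Fin n → Ω), 2 ≤ n →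
      (∀ i j : Fin n, i ≠ j → ∃ g : G, g • I i = J i ∧ g • I j = J j) →
      ∃ g : G, ∀ i, g • I i = J i) :
    ((Fintype.card Ω).Prime ∧ ∀ ω : Ω, Nat.card ↥(MulAction.stabilizer G ω) ≤ 2) ∨
      IsAnisotropicPlane G Ω := by
  obtain ⟨N, hN, hN1, hNc⟩ := haff
  have hfix : MulAction.fixedPoints N Ω ≠ Set.univ := by
    intro e
    refine hN1 ((Subgroup.eq_bot_iff_forall N).mpr fun n hn =>
      FaithfulSMul.eq_of_smul_eq_smul (α := Ω) fun ω => ?_)
    have : ω ∈ MulAction.fixedPoints N Ω := e ▸ Set.mem_univ ω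
    rw [one_smul]
    exact this ⟨n, hn⟩
  have : MulAction.IsPretransitive N Ω :=
    MulAction.IsQuasiPreprimitive.isPretransitive_of_normal hfix
  obtain ⟨ω0, hω0⟩ : ∃ ω : Ω, ω ∉ MulAction.fixedPoints N Ω := by
    by_contra hc
    push Not at hc
    exact hfix (Set.eq_univ_iff_forall.mpr hc)
  have hinj : Function.Injective fun n : N => (n : G) • ω0 := by
    intro a b h
    refine Subtype.ext (FaithfulSMul.eq_of_smul_eq_smul (α := Ω) fun ω => ?_)
    obtain ⟨m, rfl⟩ := MulAction.exists_smul_eq N ω0 ω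
    have hc : ∀ x : N, (x : G) • m • ω0 = (m : G) • (x : G) • ω0 := fun x => by
      rw [Subgroup.smul_def, ← mul_smul, ← mul_smul]
      exact congrArg (fun y : N => (y : G) • ω0) (hNc.is_comm.comm x m)
    rw [hc, hc]
    exact congrArg _ h
  let H := MulAction.stabilizer G ω0
  let act : DistribMulAction H (Additive N) :=
    { smul := fun h v => Additive.ofMul
        (⟨(h : G) * (Additive.toMul v : N) * (h : G)⁻¹, hN.conj_mem _ (Additive.toMul v).2 _⟩ : N)
      one_smul := fun v => Additive.toMul.injective (Subtype.ext (by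
        show ((1 : H) : G) * _ * ((1 : H) : G)⁻¹ = _
        simp))
      mul_smul := fun g h v => Additive.toMul.injective (Subtype.ext (by
        show ((g * h : H) : G) * _ * ((g * h : H) : G)⁻¹ = (g : G) * ((h : G) * _ * (h : G)⁻¹) * (g : G)⁻¹
        rw [Subgroup.coe_mul]; group))
      smul_zero := fun h => Additive.toMul.injective (Subtype.ext (by
        show (h : G) * ((1 : N) : G) * (h : G)⁻¹ = 1
        simp))
      smul_add := fun h v w => Additive.toMul.injective (Subtype.ext (by
        show (h : G) * (((Additive.toMul v : N) : G) * (Additive.toMul w : N)) * (h : G)⁻¹ =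
          ((h : G) * (Additive.toMul v : N) * (h : G)⁻¹) * ((h : G) * (Additive.toMul w : N) * (h : G)⁻¹)
        group)) }
  let _ : AddCommGroup (Additive N) :=
    { (inferInstance : AddGroup (Additive N)) with
      add_comm := fun x y => Additive.toMul.injective (hNc.is_comm.comm _ _) }
  let pt : Additive N → Ω := fun v => ((Additive.toMul v : N) : G) • ω0
  have hpt : Function.Bijective pt := by
    refine ⟨fun a b h => Additive.toMul.injective (hinj h), fun ω => ?_⟩
    obtain ⟨n, hn⟩ := MulAction.exists_smul_eq N ω0 ω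
    exact ⟨Additive.ofMul n, hn⟩
  -- the action of `n h` in affine coordinates
  have hact : ∀ (n : Additive N) (h : H) (v : Additive N),
      (((Additive.toMul n : N) : G) * h) • pt v = pt (n + h • v) := by
    intro n h v
    show _ = (((Additive.toMul n : N) : G) * ((h : G) * (Additive.toMul v : N) * (h : G)⁻¹)) • ω0
    rw [← mul_smul]
    conv_rhs => rw [← show (h : G) • ω0 = ω0 from h.2]
    rw [← mul_smul]
    congr 1
    group
  have hdec : ∀ g : G, ∃ (n : Additive N) (h : H), g = ((Additive.toMul n : N) : G) * h := by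
    intro g
    obtain ⟨n, hn⟩ := hpt.2 (g • ω0)
    refine ⟨n, ⟨((Additive.toMul n : N) : G)⁻¹ * g, ?_⟩, (mul_inv_cancel_left _ _).symm⟩
    show (_ * g) • ω0 = ω0
    rw [mul_smul, ← hn]
    exact inv_smul_smul _ _
  have : FaithfulSMul H (Additive N) := ⟨fun {g h} hgh => Subtype.ext
    (FaithfulSMul.eq_of_smul_eq_smul (α := Ω) fun ω => by
      obtain ⟨v, rfl⟩ := hpt.2 ω
      have h1 := hact 0 g v
      have h2 := hact 0 h v
      rw [hgh v] at h1
      simp only [toMul_zero, Subgroup.coe_one, one_mul] at h1 h2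
      rw [h1, h2])⟩
  have : Finite (Additive N) := Finite.of_equiv N Additive.ofMul
  have : Nontrivial (Additive N) := by
    obtain ⟨n, hn, hn1⟩ : ∃ n ∈ N, n ≠ 1 := by
      by_contra hc
      push Not at hc
      exact hN1 ((Subgroup.eq_bot_iff_forall N).mpr hc)
    exact ⟨⟨Additive.ofMul (⟨n, hn⟩ : N), 0, fun e => hn1 (congrArg Subtype.val (congrArg Additive.toMul e))⟩⟩
  have hb : IsBin H (Additive N) := by
    intro a a' hd
    have hpair : ∀ i j : Fin 4, i ≠ j →
        ∃ g : G, g • pt (a i) = pt (a' i) ∧ g • pt (a j) = pt (a' j) := by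
      intro i j hij
      obtain ⟨h, hh⟩ := hd i j hij
      refine ⟨((Additive.toMul (a' j - h • a j) : N) : G) * h, ?_, ?_⟩
      · rw [hact]
        congr 1
        rw [smul_sub] at hh
        calc a' j - h • a j + h • a i = a' j + (h • a i - h • a j) := by abel
          _ = a' i := by rw [hh]; abel
      · rw [hact, sub_add_cancel]
    obtain ⟨g, hg⟩ := hbin 4 (fun i => pt (a i)) (fun i => pt (a' i)) (by norm_num) hpair
    obtain ⟨n, h, rfl⟩ := hdec g
    refine ⟨h, fun i j => ?_⟩
    have hi := hpt.1 ((hact n h (a i)).symm.trans (hg i))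
    have hj := hpt.1 ((hact n h (a j)).symm.trans (hg j))
    rw [← hi, ← hj, smul_sub]
    abel
  have hirr : IsIrr H (Additive N) := by
    intro W hW
    let M : Subgroup G :=
      { carrier := {x | ∃ v ∈ W, ((Additive.toMul v : N) : G) = x}
        one_mem' := ⟨0, W.zero_mem, rfl⟩
        mul_mem' := by
          rintro _ _ ⟨v, hv, rfl⟩ ⟨w, hw, rfl⟩
          exact ⟨v + w, W.add_mem hv hw, rfl⟩
        inv_mem' := by
          rintro _ ⟨v, hv, rfl⟩
          exact ⟨-v, W.neg_mem hv, rfl⟩ }
    have : M.Normal := ⟨by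
      rintro _ ⟨v, hv, rfl⟩ g
      obtain ⟨n, h, rfl⟩ := hdec g
      refine ⟨h • v, hW h v hv, ?_⟩
      have hc := congrArg Subtype.val (congrArg Additive.toMul
        (show n + h • v - n = h • v by abel))
      exact hc.symm.trans (by
        show ((Additive.toMul n : N) : G) * ((h : G) * (Additive.toMul v : N) * (h : G)⁻¹) /
          ((Additive.toMul n : N) : G) = _
        rw [div_eq_mul_inv]
        group)⟩
    by_cases hM : MulAction.fixedPoints M Ω = Set.univ
    · left
      rw [AddSubgroup.eq_bot_iff_forall]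
      intro v hv
      have hv' : ω0 ∈ MulAction.fixedPoints M Ω := hM ▸ Set.mem_univ ω0
      have h1 := hv' ⟨_, v, hv, rfl⟩
      refine hpt.1 (h1.trans ?_)
      simp [pt]
    · right
      have : MulAction.IsPretransitive M Ω :=
        MulAction.IsQuasiPreprimitive.isPretransitive_of_normal hM
      rw [eq_top_iff]
      intro v _
      obtain ⟨⟨_, w, hw, rfl⟩, hm⟩ := MulAction.exists_smul_eq M ω0 (pt v)
      rwa [← hpt.1 (hm : pt w = pt v)]
  rcases classify hb hirr with ⟨hp, hH⟩ | ⟨E, fE, ftE, σ, e, hσ, hne, hrange⟩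
  · refine Or.inl ⟨?_, fun ω => ?_⟩
    · rwa [← Nat.card_eq_fintype_card, ← Nat.card_eq_of_bijective pt hpt]
    · obtain ⟨g, rfl⟩ := MulAction.exists_smul_eq G ω0 ω
      have : Nat.card (MulAction.stabilizer G (g • ω0)) = Nat.card H :=
        Nat.card_congr (MulAction.stabilizerEquivStabilizer (g := g) rfl).toEquiv.symm
      rw [this]
      exact hH
  · right
    obtain ⟨F, τ, hτ, hdim, haut, hnorm⟩ := exists_fixed_field σ hσ hne
    let e' : Ω ≃ E := (Equiv.ofBijective pt hpt).symm.trans e.toEquiv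
    have he' : ∀ v, e' (pt v) = e v := fun v => by
      show e ((Equiv.ofBijective pt hpt).symm (pt v)) = e v
      congr 1
      exact (Equiv.ofBijective pt hpt).symm_apply_apply v
    refine ⟨F, E, inferInstance, Fintype.ofFinite F, fE, ftE, inferInstance, e', hdim,
      fun π => ⟨?_, ?_⟩⟩
    · rintro ⟨g, rfl⟩
      obtain ⟨n, h, rfl⟩ := hdec g
      obtain ⟨a, ha, hcase⟩ := (hrange (fun v => h • v)).mp ⟨h, fun _ => rfl⟩
      rcases hcase with hc | hc
      · refine ⟨a, e n, AlgEquiv.refl, (hnorm a).mpr ha, fun ω => ?_⟩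
        obtain ⟨v, rfl⟩ := hpt.2 ω
        rw [MulAction.toPermHom_apply, MulAction.toPerm_apply, hact, he', he', map_add, hc,
          add_comm]
        rfl
      · refine ⟨a, e n, τ, (hnorm a).mpr ha, fun ω => ?_⟩
        obtain ⟨v, rfl⟩ := hpt.2 ω
        rw [MulAction.toPermHom_apply, MulAction.toPerm_apply, hact, he', he', map_add, hc,
          hτ, add_comm]
    · rintro ⟨a, b, φ, ha, hφ⟩
      obtain ⟨h, hh⟩ := (hrange fun v => e.symm (a * φ (e v))).mpr ⟨a, (hnorm a).mp ha, by
        rcases haut φ with rfl | rfl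
        · exact Or.inl fun v => e.apply_symm_apply _
        · exact Or.inr fun v => by rw [e.apply_symm_apply, hτ]⟩
      refine ⟨((Additive.toMul (e.symm b) : N) : G) * h, Equiv.ext fun ω => ?_⟩
      obtain ⟨v, rfl⟩ := hpt.2 ω
      apply e'.injective
      rw [MulAction.toPermHom_apply, MulAction.toPerm_apply, hact, he', hφ, he', map_add, hh,
        e.apply_symm_apply, e.apply_symm_apply, add_comm]

end Cfsg.Agent.Lib.BinaryAffine
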