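import Cfsg.Agent.Lib.BinaryAffine.Basic
import Mathlib.Algebra.BigOperators.GroupWithZero.Action
import Mathlib.GroupTheory.OrderOfElement
import Mathlib.Tactic.Abel

/-!
The sum over a subgroup of odd order, acting on a group of exponent two.
-/

namespace Cfsg.Agent.Lib.BinaryAffine

variable {H V : Type*} [Group H] [Finite H] [AddCommGroup V] [DistribMulAction H V]

/-- The sum of the translates of `v` by a subgroup. -/
noncomputable def orbitSum (M : Subgroup H) (v : V) : V :=
  letI := Fintype.ofFinite M
  ∑ m : M, (m : H) • v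

variable (M : Subgroup H)

theorem orbitSum_add (v w : V) : orbitSum M (v + w) = orbitSum M v + orbitSum M w := by
  simp [orbitSum, smul_add, Finset.sum_add_distrib]

theorem orbitSum_zero : orbitSum M (0 : V) = 0 := by simp [orbitSum]

theorem smul_orbitSum (g : H) (v : V) :
    g • orbitSum M v = (letI := Fintype.ofFinite M; ∑ m : M, (g * m) • v) := by
  simp [orbitSum, Finset.smul_sum, mul_smul]

theorem orbitSum_fix {m : H} (hm : m ∈ M) (v : V) : m • orbitSum M v = orbitSum M v := by
  rw [smul_orbitSum]
  let _ := Fintype.ofFinite M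
  exact Fintype.sum_equiv (Equiv.mulLeft (⟨m, hm⟩ : M)) _ _ fun x => rfl

theorem orbitSum_of_fix {v : V} (h : ∀ m ∈ M, m • v = v) : orbitSum M v = Nat.card M • v := by
  let _ := Fintype.ofFinite M
  rw [orbitSum, Finset.sum_congr rfl fun m _ => h _ m.2, Finset.sum_const, Finset.card_univ,
    Nat.card_eq_fintype_card]

/-- If `g` conjugates the action of `M` on a vector to that of `M'`, it carries the sums along. -/
theorem orbitSum_comm {M' : Subgroup H} (e : M ≃ M') {g : H} {v : V}
    (h : ∀ m : M, (m : H) • g • v = g • (e m : H) • v) :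
    orbitSum M (g • v) = g • orbitSum M' v := by
  let _ := Fintype.ofFinite M
  let _ := Fintype.ofFinite M'
  rw [orbitSum, orbitSum, Finset.smul_sum]
  exact Fintype.sum_equiv e _ _ h

theorem nsmul_of_odd (hV : ∀ v : V, v + v = 0) {n : ℕ} (hn : Odd n) (v : V) : n • v = v := by
  obtain ⟨j, rfl⟩ := hn
  rw [add_nsmul, two_mul, add_nsmul, hV, zero_add, one_nsmul]

/-- An element of odd order whose square fixes a vector fixes it. -/
theorem fix_of_sq_fix {g : H} (hg : Odd (orderOf g)) {v : V} (h : g • g • v = v) : g • v = v := by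
  obtain ⟨j, hj⟩ := hg
  have h2 : ∀ i : ℕ, g ^ (2 * i) • v = v := fun i => by
    induction i with
    | zero => simp
    | succ i ih => rw [Nat.mul_succ, pow_add, mul_smul, sq, mul_smul, h, ih]
  calc g • v = g • g ^ (2 * j) • v := by rw [h2]
    _ = v := by rw [← mul_smul, ← pow_succ', ← hj, pow_orderOf_eq_one, one_smul]

theorem odd_orderOf_of_mem {K : Subgroup H} (hK : Odd (Nat.card K)) {g : H} (hg : g ∈ K) :
    Odd (orderOf g) := hK.of_dvd_nat (Subgroup.orderOf_dvd_natCard K hg)

theorem eq_one_of_sq {g : H} (hg : Odd (orderOf g)) (h : g * g = 1) : g = 1 := by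
  obtain ⟨j, hj⟩ := hg
  have := pow_orderOf_eq_one g
  rwa [hj, pow_succ, pow_mul, sq, h, one_pow, one_mul] at this

end Cfsg.Agent.Lib.BinaryAffine
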