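import Mathlib.Algebra.Group.Pointwise.Set.Basic
import Mathlib.Algebra.Module.Basic
import Mathlib.Algebra.Ring.Subring.Basic
import Mathlib.Data.Fin.VecNotation
import Mathlib.GroupTheory.Perm.Cycle.Type
import Mathlib.GroupTheory.PGroup
import Mathlib.Algebra.CharP.Lemmas
import Mathlib.Tactic.Abel
import Mathlib.Tactic.FinCases

/-!
Binary linear groups: an affine group `V ⋊ H` is binary iff difference-equivalent tuples of `V` are
equivalent.  Only tuples of four points are used; the consequences needed are the swapping lemma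
`swap` and the parallelogram lemma `par`.
-/

namespace Cfsg.Agent.Lib.BinaryAffine

variable (H V : Type*) [Group H] [AddCommGroup V] [DistribMulAction H V]

/-- Two quadruples of vectors with `H`-equivalent differences are `H`-equivalent up to translation. -/
def IsBin : Prop :=
  ∀ a a' : Fin 4 → V, (∀ i j, i ≠ j → ∃ h : H, h • (a i - a j) = a' i - a' j) →
    ∃ h : H, ∀ i j, h • (a i - a j) = a' i - a' j

/-- No invariant subgroup other than the trivial ones. -/
def IsIrr : Prop :=
  ∀ W : AddSubgroup V, (∀ h : H, ∀ v ∈ W, h • v ∈ W) → W = ⊥ ∨ W = ⊤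

/-- The degenerate outcome: a prime number of vectors and at most two linear parts. -/
def IsSmall : Prop := (Nat.card V).Prime ∧ Nat.card H ≤ 2

variable {H V}

theorem four_points (hb : IsBin H V) (x y z x' y' z' : V)
    (h1 : ∃ h : H, h • x = x') (h2 : ∃ h : H, h • y = y') (h3 : ∃ h : H, h • z = z')
    (h12 : ∃ h : H, h • (y - x) = y' - x') (h13 : ∃ h : H, h • (z - x) = z' - x')
    (h23 : ∃ h : H, h • (z - y) = z' - y') :
    ∃ h : H, h • x = x' ∧ h • y = y' ∧ h • z = z' := by
  have neg : ∀ {a b a' b' : V}, (∃ h : H, h • (a - b) = a' - b') →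
      ∃ h : H, h • (b - a) = b' - a' := by
    rintro a b a' b' ⟨h, hh⟩
    exact ⟨h, by rw [← neg_sub a b, smul_neg, hh, neg_sub]⟩
  have d0 : ∀ {a a' : V}, (∃ h : H, h • a = a') → ∃ h : H, h • (a - 0) = a' - 0 := by
    intro a a' h; simpa using h
  obtain ⟨h, hh⟩ := hb ![0, x, y, z] ![0, x', y', z'] (by
    intro i j hij
    fin_cases i <;> fin_cases j <;> first | exact absurd rfl hij | skip
    all_goals first
      | exact d0 h1 | exact neg (d0 h1) | exact d0 h2 | exact neg (d0 h2)
      | exact d0 h3 | exact neg (d0 h3) | exact h12 | exact neg h12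
      | exact h13 | exact neg h13 | exact h23 | exact neg h23)
  exact ⟨h, by simpa using hh 1 0, by simpa using hh 2 0, by simpa using hh 3 0⟩

/-- Two vectors of one orbit are interchanged by some group element. -/
theorem swap (hb : IsBin H V) {b y : V} (h : ∃ g : H, g • b = y) :
    ∃ t : H, t • b = y ∧ t • y = b := by
  obtain ⟨g, hg⟩ := h
  obtain ⟨t, h1, h2, -⟩ := four_points hb (b + y) b b (b + y) y y ⟨1, one_smul _ _⟩ ⟨g, hg⟩
    ⟨g, hg⟩ ⟨g⁻¹, by
      rw [inv_smul_eq_iff, show b - (b + y) = -y by abel, show y - (b + y) = -b by abel,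
        smul_neg, hg]⟩
    ⟨g⁻¹, by
      rw [inv_smul_eq_iff, show b - (b + y) = -y by abel, show y - (b + y) = -b by abel,
        smul_neg, hg]⟩
    ⟨1, by simp⟩
  refine ⟨t, h2, ?_⟩
  rw [smul_add, h2] at h1
  exact add_left_cancel (h1.trans (add_comm b y))

/-- The parallelogram lemma. -/
theorem par (hb : IsBin H V) {a b c : V} (h1 : ∃ h : H, h • (a + b) = c)
    (h2 : ∃ h : H, h • b = c - a) (h3 : ∃ h : H, h • a = c - b) : c = a + b := by
  obtain ⟨h, ha, hb', hc⟩ := four_points hb a b (a + b) a b c ⟨1, one_smul _ _⟩ ⟨1, one_smul _ _⟩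
    h1 ⟨1, one_smul _ _⟩ (by simpa using h2) (by simpa using h3)
  rw [← hc, smul_add, ha, hb']

/-- If `k` fixes `a` and `g • a - a` lies in the image of `k - 1`, then `g` fixes `a`. -/
theorem fix_of_sub_eq (hb : IsBin H V) {a b : V} {g k : H} (hk : k • a = a)
    (h : g • a - a = k • b - b) : g • a = a := by
  have hc := par hb (a := a) (b := b) (c := a + k • b) ⟨k, by rw [smul_add, hk]⟩
    ⟨k, by simp⟩ ⟨g, by rw [← sub_add_cancel (g • a) a, h]; abel⟩
  rw [add_left_cancel hc] at h
  exact sub_eq_zero.mp (h.trans (sub_self b))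

/-- The vectors fixed by a set of group elements. -/
def fixedSub (S : Set H) : AddSubgroup V where
  carrier := {v | ∀ s ∈ S, s • v = v}
  zero_mem' := fun s _ => smul_zero s
  add_mem' := fun {a b} ha hb s hs => by rw [smul_add, ha s hs, hb s hs]
  neg_mem' := fun {a} ha s hs => by rw [smul_neg, ha s hs]

theorem mem_fixedSub {S : Set H} {v : V} : v ∈ fixedSub S ↔ ∀ s ∈ S, s • v = v := Iff.rfl

/-- A normal subgroup fixing a nonzero vector is trivial. -/
theorem eq_bot_of_fix [FaithfulSMul H V] (hi : IsIrr H V) (K : Subgroup H) [K.Normal] {v : V}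
    (hv : v ≠ 0) (hf : ∀ k ∈ K, k • v = v) : K = ⊥ := by
  rcases hi (fixedSub (K : Set H)) (fun h w hw k hk => by
    have := hw _ (Subgroup.Normal.conj_mem' inferInstance k hk h)
    rw [mul_smul, mul_smul, inv_smul_eq_iff] at this
    exact this) with h | h
  · exact absurd (by
      have : v ∈ fixedSub (K : Set H) := hf
      rw [h, AddSubgroup.mem_bot] at this
      exact this) hv
  · rw [Subgroup.eq_bot_iff_forall]
    intro k hk
    refine FaithfulSMul.eq_of_smul_eq_smul (α := V) fun w => ?_
    have : w ∈ fixedSub (K : Set H) := by rw [h]; exact AddSubgroup.mem_top w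
    rw [this k hk, one_smul]

/-- An element of order `p` is impossible when `V` has odd characteristic `p`. -/
theorem not_dvd_card [Finite H] [FaithfulSMul H V] (hb : IsBin H V) (p : ℕ) [hp : Fact p.Prime]
    (hp2 : p ≠ 2) (hV : ∀ v : V, p • v = 0) : ¬ p ∣ Nat.card H := by
  intro hdvd
  obtain ⟨u, hu⟩ := exists_prime_orderOf_dvd_card' (G := H) p hdvd
  let U : AddMonoid.End V := DistribMulAction.toAddMonoidEnd H V u
  have hU : ∀ v, U v = u • v := fun v => rfl
  have hU1 : U ≠ 1 := fun e => by
    have : u = 1 := FaithfulSMul.eq_of_smul_eq_smul (α := V) fun v => by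
      rw [one_smul, ← hU, e]; rfl
    rw [this, orderOf_one] at hu
    exact hp.out.one_lt.ne hu
  have hpow : (U - 1) ^ p = 0 := by
    obtain ⟨r, hr⟩ := Commute.exists_add_pow_prime_eq hp.out (x := U - 1) (y := 1)
      (Commute.one_right _)
    have hz : (p : AddMonoid.End V) = 0 := by
      ext v; rw [AddMonoid.End.natCast_apply]; exact hV v
    have hUp : U ^ p = 1 := by
      rw [← map_pow, ← hu, pow_orderOf_eq_one, map_one]
    rw [sub_add_cancel, hUp, one_pow, hz, zero_mul, zero_mul, zero_mul, add_zero] at hr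
    simpa using hr.symm
  classical
  have hex : ∃ n, (U - 1) ^ n = 0 := ⟨p, hpow⟩
  have hn2 : 2 ≤ Nat.find hex := by
    by_contra hc
    have h1 := Nat.find_spec hex
    interval_cases hh : Nat.find hex
    · exact hU1 (by
        have h0 : (1 : AddMonoid.End V) = 0 := by simpa using h1
        calc U = U * 1 := (mul_one _).symm
          _ = U * 0 := by rw [h0]
          _ = 0 := mul_zero _
          _ = 1 := h0.symm)
    · exact hU1 (sub_eq_zero.mp (by simpa using h1))
  obtain ⟨m, hm⟩ : ∃ m, Nat.find hex = m + 2 := ⟨Nat.find hex - 2, by omega⟩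
  have hne : (U - 1) ^ (m + 1) ≠ 0 := Nat.find_min hex (by omega)
  obtain ⟨w, hw⟩ : ∃ w, ((U - 1) ^ (m + 1)) w ≠ 0 := by
    by_contra hc
    push Not at hc
    exact hne (by ext v; exact hc v)
  set v := ((U - 1) ^ m) w with hv
  set d := u • v - v with hd
  have hD : ∀ x, (U - 1) x = u • x - x := fun x => rfl
  have hd0 : d ≠ 0 := by
    rw [hd, ← hD, hv]
    rw [pow_succ'] at hw
    exact hw
  have hdfix : u • d = d := by
    rw [← sub_eq_zero, ← hD, hd, ← hD, hv]
    have h1 := Nat.find_spec hex
    rw [hm, pow_succ', pow_succ'] at h1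
    exact DFunLike.congr_fun h1 w
  have hmul : ∀ j : ℕ, u ^ j • v = v + j • d := by
    intro j
    induction j with
    | zero => simp
    | succ j ih =>
      rw [pow_succ', mul_smul, ih, smul_add, smul_comm u j d, hdfix, succ_nsmul, hd]
      abel
  obtain ⟨j, hj⟩ : ∃ j, p = 2 * j + 1 := hp.out.odd_of_ne_two hp2
  have hc := par hb (a := v) (b := v) (c := (v + v) + d)
    ⟨u ^ (j + 1), by
      rw [smul_add, hmul, add_add_add_comm, ← add_nsmul,
        show (j + 1) + (j + 1) = p + 1 by omega, add_nsmul, hV, one_nsmul, zero_add]⟩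
    ⟨u, by rw [hd]; abel⟩ ⟨u, by rw [hd]; abel⟩
  exact hd0 (add_eq_left.mp hc)

/-- The endomorphisms commuting with the action of a subset. -/
def endo (S : Set H) : Subring (AddMonoid.End V) :=
  Subring.centralizer (DistribMulAction.toAddMonoidEnd H V '' S)

theorem mem_endo {S : Set H} {f : AddMonoid.End V} :
    f ∈ endo S ↔ ∀ s ∈ S, ∀ v, f (s • v) = s • f v := by
  rw [endo, Subring.mem_centralizer_iff]
  constructor
  · intro h s hs v
    exact (DFunLike.congr_fun (h _ ⟨s, hs, rfl⟩) v).symm
  · rintro h _ ⟨s, hs, rfl⟩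
    ext v
    exact (h s hs v).symm

/-- The regular orbit case. -/
theorem small_of_regular [Finite H] [Finite V] [Nontrivial V] [FaithfulSMul H V]
    (hb : IsBin H V) (hi : IsIrr H V) {b : V} (hbreg : ∀ h : H, h • b = b → h = 1) :
    IsSmall H V := by
  have hsq : ∀ h : H, h * h = 1 := fun h => by
    obtain ⟨t, h1, h2⟩ := swap hb (b := b) ⟨h, rfl⟩
    have hth : h⁻¹ * t = 1 := hbreg _ (by rw [mul_smul, h1, inv_smul_smul])
    rw [inv_mul_eq_one] at hth
    subst hth
    exact hbreg _ (by rw [mul_smul]; exact h2)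
  have hcomm : ∀ g h : H, g * h = h * g := fun g h => by
    have e : ∀ x : H, x⁻¹ = x := fun x => inv_eq_of_mul_eq_one_right (hsq x)
    calc g * h = (g * h)⁻¹ := (e _).symm
      _ = h⁻¹ * g⁻¹ := mul_inv_rev _ _
      _ = h * g := by rw [e, e]
  have hpm : ∀ h : H, h = 1 ∨ ∀ v : V, h • v = -v := fun h => by
    rcases hi (fixedSub ({h} : Set H)) (fun g w hw s hs => by
      rw [Set.mem_singleton_iff.mp hs, ← mul_smul, hcomm, mul_smul, hw h rfl]) with e | e
    · refine Or.inr fun v => ?_
      have hm : h • v + v ∈ fixedSub ({h} : Set H) := fun s hs => by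
        rw [Set.mem_singleton_iff.mp hs, smul_add, ← mul_smul, hsq, one_smul, add_comm]
      rw [e, AddSubgroup.mem_bot] at hm
      exact eq_neg_of_add_eq_zero_left hm
    · refine Or.inl (FaithfulSMul.eq_of_smul_eq_smul (α := V) fun v => ?_)
      have hm : v ∈ fixedSub ({h} : Set H) := by rw [e]; exact AddSubgroup.mem_top v
      rw [one_smul, hm h rfl]
  have htwo : Nat.card H ≤ 2 := by
    by_cases h : ∃ z : H, z ≠ 1
    · obtain ⟨z, hz⟩ := h
      have : (Set.univ : Set H) ⊆ {1, z} := fun g _ => by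
        rcases hpm g with e | e
        · exact Or.inl e
        · refine Or.inr (FaithfulSMul.eq_of_smul_eq_smul (α := V) fun v => ?_)
          rw [e v, ((hpm z).resolve_left hz) v]
      calc Nat.card H = (Set.univ : Set H).ncard := (Set.ncard_univ H).symm
        _ ≤ ({1, z} : Set H).ncard := Set.ncard_le_ncard this
        _ ≤ 2 := (Set.ncard_insert_le _ _).trans (by simp)
    · push Not at h
      have : Subsingleton H := ⟨fun a b => by rw [h a, h b]⟩
      simp
  refine ⟨?_, htwo⟩
  have hinv : ∀ W : AddSubgroup V, W = ⊥ ∨ W = ⊤ := fun W => hi W fun h v hv => by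
    rcases hpm h with rfl | e
    · rwa [one_smul]
    · rw [e]; exact neg_mem hv
  obtain ⟨q, hq, hqd⟩ := Nat.exists_prime_and_dvd (Finite.one_lt_card (α := V)).ne'
  have := Fact.mk hq
  obtain ⟨v, hv⟩ := exists_prime_addOrderOf_dvd_card' (G := V) q hqd
  have hv0 : v ≠ 0 := fun e => hq.one_lt.ne (by rw [← hv, e, addOrderOf_zero])
  rcases hinv (AddSubgroup.zmultiples v) with e | e
  · exact absurd (AddSubgroup.zmultiples_eq_bot.mp e) hv0
  · rw [← AddSubgroup.card_top (G := V), ← e, Nat.card_zmultiples, hv]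
    exact hq

end Cfsg.Agent.Lib.BinaryAffine
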