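import Cfsg.Agent.Lib.BinaryAffine.TwoEigen
import Cfsg.Agent.Lib.OddOrder.FeitThompson

/-!
In characteristic two an irreducible binary linear group without regular orbits is a generalised
dihedral group.
-/

set_option linter.unusedSectionVars false

open scoped Pointwise

namespace Cfsg.Agent.Lib.BinaryAffine

universe u v

variable {H : Type u} {V : Type v} [Group H] [Finite H] [AddCommGroup V] [DistribMulAction H V]
  [FaithfulSMul H V]

namespace TwoData

variable {S : Sylow 2 H} {N : Subgroup H} (d : TwoData H V S N)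
include d

/-- An involution commuting with the action of `N` on an invariant subgroup is trivial on it. -/
theorem involution_fix {U : AddSubgroup V} (hU : ∀ n ∈ N, ∀ v ∈ U, n • v ∈ U) {z : H}
    (hzz : z * z = 1) (hzU : ∀ v ∈ U, z • v ∈ U)
    (hzN : ∀ n ∈ N, ∀ v ∈ U, z • n • v = n • z • v) {v : V} (hv : v ∈ U) : z • v = v := by
  have hP : IsPGroup 2 (Subgroup.zpowers z) := by
    rintro ⟨x, hx⟩
    obtain ⟨j, rfl⟩ := Subgroup.mem_zpowers_iff.mp hx
    refine ⟨1, Subtype.ext ?_⟩
    show (z ^ j) ^ (2 ^ 1) = 1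
    rw [← zpow_natCast, ← zpow_mul, mul_comm, zpow_mul]
    simp [sq, hzz]
  obtain ⟨Q, hQ⟩ := hP.exists_le_sylow
  obtain ⟨k, hk⟩ := MulAction.exists_smul_eq H S Q
  have hzQ : z ∈ ((k • S : Sylow 2 H) : Subgroup H) := hk ▸ hQ (Subgroup.mem_zpowers z)
  rw [Sylow.coe_subgroup_smul] at hzQ
  obtain ⟨s, hs, hsz'⟩ := hzQ
  have hsz : k * s * k⁻¹ = z := hsz'
  have hzk : ∀ x : V, z • k • x = k • s • x := fun x => by
    rw [← hsz, mul_smul, mul_smul, inv_smul_smul]
  have hsU : ∀ x, k • x ∈ U → k • s • x ∈ U := fun x hx => hzk x ▸ hzU _ hx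
  have hnc : ∀ n ∈ N, ∀ x, k • x ∈ U → k • n • x ∈ U := fun n hn x hx => by
    have := hU _ (d.normal.conj_mem n hn k) _ hx
    rwa [← mul_smul, inv_mul_cancel_right, mul_smul] at this
  have hcomm : ∀ n ∈ N, ∀ x, k • x ∈ U → s • n • x = n • s • x := fun n hn x hx => by
    apply smul_left_cancel k
    have h := hzN _ (d.normal.conj_mem n hn k) _ hx
    rw [← mul_smul (k * n * k⁻¹) k x, inv_mul_cancel_right, mul_smul k n x, hzk, hzk] at h
    rw [h, ← mul_smul (k * n * k⁻¹) k (s • x), inv_mul_cancel_right, mul_smul k n (s • x)]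
  obtain ⟨w, rfl⟩ : ∃ w, k • w = v := ⟨k⁻¹ • v, smul_inv_smul _ _⟩
  rw [hzk]
  suffices h0 : s • w + w = 0 by
    rw [← sub_two d.hV, sub_eq_zero] at h0
    rw [h0]
  set x := s • w + w with hx
  have hxU : k • x ∈ U := by rw [hx, smul_add]; exact add_mem (hsU _ hv) hv
  have hxs : s • x = x := by
    rw [hx, smul_add, ← mul_smul, d.ss hs, one_smul, add_comm]
  by_contra hx0
  obtain ⟨y, hy, hyx⟩ := d.exists_eig_smul_ne hx0
  apply hyx
  by_cases hsy : s * y = y * s
  · rw [hx, add_comm]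
    exact comm_fix d.hV d.hb (d.ss hs) hsy.symm w
  · refine fix_of_sq_fix (odd_orderOf_of_mem d.odd hy.1) ?_
    have h1 := hcomm y hy.1 x hxU
    have h3 : s * y = y⁻¹ * s := by
      rw [← d.conj_eq_inv hy hs hsy, mul_assoc, d.ss hs, mul_one]
    rw [← mul_smul, h3, mul_smul, hxs, inv_smul_eq_iff] at h1
    exact h1.symm

/-- Every eigen-part is invariant under the whole group. -/
theorem part_invariant {y : H} (hy : IsEig S N y) (hy1 : y ≠ 1) (g : H) {w : V}
    (hw : w ∈ part S N y) : g • w ∈ part S N y := by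
  by_contra hgw
  have hNn := d.normal
  set u := orbitSum (cen S N y) (g • w) with hu
  have hu0 : u ≠ 0 := fun e => hgw (mem_part.mpr e)
  let G1 : AddSubgroup V := (part S N y).comap (DistribSMul.toAddMonoidHom V g⁻¹)
  have hG1 : ∀ v, v ∈ G1 ↔ g⁻¹ • v ∈ part S N y := fun v => Iff.rfl
  have hG1N : ∀ n ∈ N, ∀ v ∈ G1, n • v ∈ G1 := fun n hn v hv => by
    rw [hG1] at hv ⊢
    have := d.part_smul (y := y) (hNn.conj_mem n hn g⁻¹) hv
    rwa [inv_inv, mul_smul, smul_inv_smul, mul_smul] at this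
  have huG : u ∈ G1 := sum_mem fun m _ => hG1N _ m.2.1 _ (by rw [hG1, inv_smul_smul]; exact hw)
  have hum : ∀ m ∈ cen S N y, m • u = u := fun m hm => orbitSum_fix _ hm _
  obtain ⟨z, hz, hzu⟩ := d.exists_eig_smul_ne hu0
  have hz1 : z ≠ 1 := fun e => hzu (by rw [e, one_smul])
  have hsame : ¬ ∀ s ∈ (S : Subgroup H), s * y = y * s → s * z = z * s :=
    fun h => hzu (hum z ⟨hz.1, h⟩)
  push Not at hsame
  obtain ⟨s, hs, hsy, hsz⟩ := hsame
  obtain ⟨r, hr, hrz, hry⟩ := d.exch hy hz hy1 hz1 hs hsy hsz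
  set u1 := u + orbitSum (cen S N z) u with hu1
  have hu1P : u1 ∈ part S N z := by
    rw [mem_part, hu1, orbitSum_add,
      orbitSum_of_fix (v := orbitSum (cen S N z) u) _ (fun m hm => orbitSum_fix _ hm _),
      nsmul_of_odd d.hV (d.odd_cen z), d.hV]
  have hu10 : u1 ≠ 0 := fun e => hzu (by
    have e2 : u = orbitSum (cen S N z) u := by
      rw [← sub_eq_zero, sub_two d.hV]; exact e
    rw [e2]
    exact orbitSum_fix _ (d.mem_cen_self hz) _)
  have hu1G : u1 ∈ G1 := add_mem huG (sum_mem fun m _ => hG1N _ m.2.1 _ huG)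
  let U : AddSubgroup V := G1 ⊓ part S N z
  have hUN : ∀ n ∈ N, ∀ v ∈ U, n • v ∈ U := fun n hn v hv =>
    ⟨hG1N n hn v hv.1, d.part_smul hn hv.2⟩
  have hconjN : ∀ n ∈ N, g * n * g⁻¹ ∈ N := fun n hn => hNn.conj_mem n hn g
  -- `s` and the conjugate of `r` both invert the action of `N` on `U`
  have invS : ∀ n ∈ N, ∀ v ∈ U, s • n • v = n⁻¹ • s • v := fun n hn v hv =>
    d.part_inverts hz hz1 hs hsz hn hv.2
  obtain ⟨r', hr'⟩ : ∃ r', r' = g * r * g⁻¹ := ⟨_, rfl⟩
  have hr'g : ∀ x : V, r' • g • x = g • r • x := fun x => by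
    rw [hr', mul_smul, mul_smul, inv_smul_smul]
  have invR : ∀ n ∈ N, ∀ v ∈ G1, r' • n • v = n⁻¹ • r' • v := fun n hn v hv => by
    obtain ⟨x, rfl⟩ : ∃ x, g • x = v := ⟨g⁻¹ • v, smul_inv_smul _ _⟩
    rw [hG1, inv_smul_smul] at hv
    have hn' : g⁻¹ * n * g ∈ N := by simpa using hNn.conj_mem n hn g⁻¹
    have h2 := d.part_inverts hy hy1 hr hry hn' hv
    rw [← mul_smul n g x, show n * g = g * (g⁻¹ * n * g) by group, mul_smul, hr'g, h2, hr'g,
      ← mul_smul, ← mul_smul, ← mul_smul, ← mul_smul]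
    congr 1
    group
  have hsU : ∀ v ∈ U, s • v ∈ U := fun v hv => by
    have hvP := d.part_smul_sylow hs hv.2
    refine ⟨?_, hvP⟩
    show g⁻¹ • s • v ∈ part S N y
    rw [mem_part]
    have hG := mem_part.mp hv.1
    have h0 : orbitSum (cen S N y) (g⁻¹ • v) = 0 := hG
    have e := orbitSum_comm (cen S N y) (Equiv.inv (cen S N y)) (g := g⁻¹ * s * g)
      (v := g⁻¹ • v) (fun m => by
        show _ = (g⁻¹ * s * g) • ((m : H)⁻¹) • g⁻¹ • v
        have h := invS _ (inv_mem (hconjN m m.2.1)) v hv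
        rw [inv_inv] at h
        have e1 : (g⁻¹ * s * g) • ((m : H)⁻¹) • g⁻¹ • v = g⁻¹ • s • (g * m * g⁻¹)⁻¹ • v := by
          simp only [← mul_smul]
          congr 1
          group
        rw [e1, h]
        simp only [← mul_smul]
        congr 1
        group)
    rw [h0, smul_zero, mul_smul (g⁻¹ * s) g, smul_inv_smul, mul_smul] at e
    exact e
  have hrU : ∀ v ∈ U, r' • v ∈ U := fun v hv => by
    obtain ⟨x, rfl⟩ : ∃ x, g • x = v := ⟨g⁻¹ • v, smul_inv_smul _ _⟩
    have hxP : x ∈ part S N y := by simpa [hG1] using hv.1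
    refine ⟨?_, ?_⟩
    · show g⁻¹ • r' • g • x ∈ part S N y
      rw [hr'g, inv_smul_smul]
      exact d.part_smul_sylow hr hxP
    · show r' • g • x ∈ part S N z
      rw [mem_part, orbitSum_comm (cen S N z) (Equiv.inv (cen S N z)) (g := r') (v := g • x)
        fun m => by
          show _ = r' • ((m : H)⁻¹) • g • x
          rw [invR _ (inv_mem m.2.1) _ hv.1, inv_inv], mem_part.mp hv.2, smul_zero]
  -- the product of the two involutions has odd order on `U`
  obtain ⟨c, hc⟩ : ∃ c, c = r' * s := ⟨_, rfl⟩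
  have hr'2 : r' * r' = 1 := by
    rw [hr']
    calc g * r * g⁻¹ * (g * r * g⁻¹) = g * (r * r) * g⁻¹ := by group
      _ = 1 := by rw [d.ss hr]; group
  have hcx : ∀ x : V, c • x = r' • s • x := fun x => by rw [hc, mul_smul]
  have hcU : ∀ (i : ℕ), ∀ v ∈ U, c ^ i • v ∈ U := fun i v hv => by
    induction i with
    | zero => simpa using hv
    | succ i ih => rw [pow_succ', mul_smul, hcx]; exact hrU _ (hsU _ ih)
  have hcN : ∀ (i : ℕ), ∀ n ∈ N, ∀ v ∈ U, c ^ i • n • v = n • c ^ i • v := fun i n hn v hv => by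
    induction i with
    | zero => simp
    | succ i ih =>
      rw [pow_succ', mul_smul, ih, mul_smul c (c ^ i) v, hcx, hcx]
      rw [invS n hn _ (hcU i v hv), invR _ (inv_mem hn) _ (hsU _ (hcU i v hv)).1, inv_inv]
  obtain ⟨α, m, hmodd, hm⟩ := Nat.exists_eq_two_pow_mul_odd (orderOf_pos c).ne'
  have hcm : c ^ m * c ^ m = 1 := sq_eq_one d.hV d.hb α (by
    rw [← pow_mul, mul_comm, ← hm, pow_orderOf_eq_one])
  have hfixU : ∀ v ∈ U, c ^ m • v = v := fun v hv =>
    d.involution_fix hUN hcm (hcU m) (hcN m) hv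
  obtain ⟨j, hj⟩ := hmodd
  have hs_eq : ∀ v ∈ U, s • c ^ j • v = c ^ j • r' • v := by
    intro v hv
    have hrc : r' * c = s := by rw [hc, ← mul_assoc, hr'2, one_mul]
    have hcrc : c * r' * c = r' := by
      rw [mul_assoc, hrc, hc, mul_assoc, d.ss hs, mul_one]
    have hpow : ∀ i : ℕ, c ^ i * r' * c ^ i = r' := fun i => by
      induction i with
      | zero => simp
      | succ i ih =>
        calc c ^ (i + 1) * r' * c ^ (i + 1) = c ^ i * (c * r' * c) * c ^ i := by
              nth_rewrite 1 [pow_succ]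
              rw [pow_succ']
              simp only [mul_assoc]
          _ = r' := by rw [hcrc, ih]
    have h1 : (s * c ^ j) • v = (c ^ j * r') • c ^ (2 * j + 1) • v := by
      rw [← mul_smul (c ^ j * r'), show 2 * j + 1 = j + (j + 1) by ring, pow_add c j (j + 1),
        ← mul_assoc, hpow j, pow_succ' c j, ← mul_assoc, hrc]
    rw [← mul_smul, h1, ← hj, hfixU v hv, mul_smul]
  -- an element of `U` moved by the conjugate of `r`
  obtain ⟨u0, hu0U, hu0r⟩ : ∃ u0 ∈ U, r' • u0 ≠ u0 := by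
    by_contra hall
    push Not at hall
    have hu1U : u1 ∈ U := ⟨hu1G, hu1P⟩
    obtain ⟨q, hq, hqu⟩ := d.exists_eig_smul_ne hu10
    refine hqu (fix_of_sq_fix (odd_orderOf_of_mem d.odd hq.1) ?_)
    have h := invR q hq.1 u1 hu1G
    rw [hall _ (hUN q hq.1 _ hu1U), hall _ hu1U, eq_inv_smul_iff] at h
    exact h
  set bi := g⁻¹ • u0 with hbi
  set bj := c ^ j • u0 with hbj
  have hbiP : bi ∈ part S N y := hu0U.1
  have hbjP : bj ∈ part S N z := (hcU j u0 hu0U).2
  set d1 := r • bi + bi with hd1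
  set d2 := s • bj + bj with hd2
  have hd1P : d1 ∈ part S N y := add_mem (d.part_smul_sylow hr hbiP) hbiP
  have hd2P : d2 ∈ part S N z := add_mem (d.part_smul_sylow hs hbjP) hbjP
  have hrel : d2 = (c ^ j * g) • d1 := by
    rw [hd2, hs_eq u0 hu0U, mul_smul (c ^ j) g, hd1, smul_add g, ← hr'g, hbi, smul_inv_smul,
      smul_add]
  have hrb : r • (bi + bj) = (bi + bj) + d1 := by
    rw [smul_add, d.part_fix hr hrz hbjP, hd1]
    calc r • bi + bj = r • bi + bj + (bi + bi) := by rw [d.hV, add_zero]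
      _ = bi + bj + (r • bi + bi) := by abel
  have hsb : s • (bi + bj) = (bi + bj) + d2 := by
    rw [smul_add, d.part_fix hs hsy hbiP, hd2]
    calc bi + s • bj = bi + s • bj + (bj + bj) := by rw [d.hV, add_zero]
      _ = bi + bj + (s • bj + bj) := by abel
  have hsd : s • d1 = d1 := d.part_fix hs hsy hd1P
  have hc' := par d.hb (a := d1) (b := bi + bj) (c := (bi + bj) + d2)
    ⟨s * r, by rw [add_comm d1, ← hrb, mul_smul, ← mul_smul r r, d.ss hr, one_smul, hsb]⟩
    ⟨s * r, by rw [mul_smul, hrb, smul_add, hsb, hsd, sub_two d.hV]⟩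
    ⟨c ^ j * g, by rw [← hrel]; abel⟩
  have heq : d2 = d1 := add_left_cancel (hc'.trans (add_comm _ _))
  have h0 : d1 = 0 := d.part_disjoint hy hy1 hz hr hrz hry hd1P (heq ▸ hd2P)
  apply hu0r
  have : g • d1 = r' • u0 + u0 := by rw [hd1, smul_add, ← hr'g, hbi, smul_inv_smul]
  rw [h0, smul_zero] at this
  rw [← sub_eq_zero, sub_two d.hV]
  exact this.symm

theorem card_two : ∃ t ∈ (S : Subgroup H), t ≠ 1 ∧ ∀ s ∈ (S : Subgroup H), s = 1 ∨ s = t := by
  obtain ⟨n, hn, hn1⟩ : ∃ n ∈ N, n ≠ 1 := by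
    by_contra hc
    push Not at hc
    exact d.ne_bot ((Subgroup.eq_bot_iff_forall _).mpr hc)
  have hne : ∃ y, IsEig S N y ∧ y ≠ 1 := by
    by_contra hc
    push Not at hc
    have hle : N ≤ ⊥ := d.le_of_eig fun y hy => by simp [hc y hy]
    exact hn1 (Subgroup.mem_bot.mp (hle hn))
  obtain ⟨y, hy, hy1⟩ := hne
  have hne0 : (part S N y : AddSubgroup V) ≠ ⊥ := by
    intro e
    apply hy1
    refine FaithfulSMul.eq_of_smul_eq_smul (α := V) fun v => ?_
    have hmem : v + orbitSum (cen S N y) v ∈ part (V := V) S N y := by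
      rw [mem_part, orbitSum_add,
        orbitSum_of_fix (v := orbitSum (cen S N y) v) _ (fun m hm => orbitSum_fix _ hm _),
        nsmul_of_odd d.hV (d.odd_cen y), d.hV]
    rw [e, AddSubgroup.mem_bot, ← sub_two d.hV, sub_eq_zero] at hmem
    rw [one_smul, hmem, orbitSum_fix _ (d.mem_cen_self hy)]
  have htop : (part S N y : AddSubgroup V) = ⊤ :=
    (d.hi _ fun g v hv => d.part_invariant hy hy1 g hv).resolve_left hne0
  obtain ⟨t, ht, hty⟩ := d.exists_not_comm hy hy1
  refine ⟨t, ht, fun e => hty (by simp [e]), fun s hs => ?_⟩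
  have hone : ∀ x ∈ (S : Subgroup H), x * y = y * x → x = 1 := fun x hx hxy =>
    FaithfulSMul.eq_of_smul_eq_smul (α := V) fun v => by
      rw [one_smul]
      exact d.part_fix hx hxy (htop ▸ AddSubgroup.mem_top v)
  by_cases hsy : s * y = y * s
  · exact Or.inl (hone s hs hsy)
  · refine Or.inr ?_
    rw [← mul_one s, ← d.ss ht, ← mul_assoc,
      hone _ (mul_mem hs ht) (d.mul_comm_of_not hy hs ht hsy hty), one_mul]

end TwoData

/-- The generalised dihedral outcome. -/
def IsDihedralType (H V : Type*) [Group H] [AddCommGroup V] [DistribMulAction H V] : Prop :=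
  ∃ (K : Subgroup H) (t : H), t ∉ K ∧ (∀ g, g ∈ K ∨ g * t ∈ K) ∧ (∀ g, g ∉ K → g * g = 1) ∧
    ∀ v : V, v ≠ 0 → ∃ g, g ∉ K ∧ g • v = v

/-- The structure theorem in characteristic two. -/
theorem dihedral_of_two [Finite V] (hV : ∀ v : V, v + v = 0) (hb : IsBin H V) (hi : IsIrr H V)
    [Nontrivial V] (hns : ∀ v : V, v ≠ 0 → ∃ h : H, h ≠ 1 ∧ h • v = v) : IsDihedralType H V := by
  have : Fact (Nat.Prime 2) := ⟨Nat.prime_two⟩
  let S : Sylow 2 H := default
  obtain ⟨K, hKn, hKodd, hKS⟩ := exists_complement hV hb S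
  obtain ⟨v0, hv0⟩ := exists_ne (0 : V)
  have hK1 : K ≠ ⊥ := by
    intro e
    have htop : (S : Subgroup H) = ⊤ := by
      rw [e] at hKS
      exact Subgroup.isComplement'_bot_left.mp hKS
    have hP : IsPGroup 2 (⊤ : Subgroup H) := htop ▸ S.2
    have h2 : 2 ∣ Nat.card V := by
      have ho : addOrderOf v0 = 2 :=
        addOrderOf_eq_prime (by rw [two_nsmul]; exact hV v0) hv0
      rw [← ho]
      exact addOrderOf_dvd_natCard v0
    obtain ⟨a, ha, ha0⟩ := hP.exists_fixed_point_of_prime_dvd_card_of_fixed_point V h2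
      (a := 0) (fun g => smul_zero _)
    have htb : (⊤ : Subgroup H) = ⊥ :=
      eq_bot_of_fix hi ⊤ (Ne.symm ha0) fun k _ => ha ⟨k, Subgroup.mem_top k⟩
    obtain ⟨h, hh, -⟩ := hns v0 hv0
    exact hh (Subgroup.mem_bot.mp (htb ▸ Subgroup.mem_top h))
  have hcent : ∀ y ∈ K, (∀ s ∈ (S : Subgroup H), s * y = y * s) → y = 1 := by
    intro y hy hc
    refine eq_one_of_sq (odd_orderOf_of_mem hKodd hy) ?_
    refine FaithfulSMul.eq_of_smul_eq_smul (α := V) fun v => ?_
    rw [one_smul, mul_smul]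
    have hyN : y ∈ Subgroup.normalizer ((S : Subgroup H) : Set H) := by
      rw [Subgroup.mem_normalizer_iff]
      intro s
      constructor
      · intro hs
        rwa [← hc s hs, mul_inv_cancel_right]
      · intro hs
        have e := hc _ hs
        rw [inv_mul_cancel_right] at e
        rwa [← mul_left_cancel e] at hs
    have hfix : y • (y • v + v) = y • v + v :=
      normalizer_fix hV hb S (fun s hs => fix_sub hV hb (sylow_sq hV hb S hs) (hc s hs).symm v)
        hyN
    rw [smul_add] at hfix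
    calc y • y • v = y • y • v + y • v + y • v := by rw [add_assoc, hV, add_zero]
      _ = v := by
        rw [hfix]
        calc y • v + v + y • v = v + (y • v + y • v) := by abel
          _ = v := by rw [hV, add_zero]
  have hKsol : Group.IsSolvable K := OddOrder.FeitThompson.isSolvable_of_odd_card hKodd
  obtain ⟨n, hn⟩ := hKsol.solvable
  classical
  have hex : ∃ n, derivedSeries K n = ⊥ := ⟨n, hn⟩
  have hpos : 0 < Nat.find hex := by
    rw [Nat.find_pos, derivedSeries_zero]
    intro e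
    apply hK1
    rw [← Subgroup.range_subtype K, MonoidHom.range_eq_map, e, Subgroup.map_bot]
  set A := derivedSeries K (Nat.find hex - 1) with hA
  have hAne : A ≠ ⊥ := Nat.find_min hex (by omega)
  have hAc : ⁅A, A⁆ = ⊥ := by
    have := Nat.find_spec hex
    rwa [show Nat.find hex = Nat.find hex - 1 + 1 by omega, derivedSeries_succ] at this
  let N : Subgroup H := A.map K.subtype
  have d : TwoData H V S N :=
    { hV := hV, hb := hb, hi := hi
      normal := inferInstance
      comm := by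
        rintro _ ⟨a, ha, rfl⟩ _ ⟨b, hb', rfl⟩
        have := Subgroup.commutator_mem_commutator ha hb'
        rw [hAc, Subgroup.mem_bot, commutatorElement_eq_one_iff_mul_comm] at this
        exact congrArg Subtype.val this
      odd := hKodd.of_dvd_nat (Subgroup.card_dvd_of_le (Subgroup.map_subtype_le _))
      ne_bot := fun e => hAne ((Subgroup.map_eq_bot_iff_of_injective _
        K.subtype_injective).mp e)
      cent := fun y hy h => hcent y (Subgroup.map_subtype_le _ hy) h }
  obtain ⟨t, ht, ht1, hS⟩ := d.card_two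
  have htt : t * t = 1 := d.ss ht
  have htK : t ∉ K := fun h => ht1 (eq_one_of_sq (odd_orderOf_of_mem hKodd h) htt)
  have hdec : ∀ g, g ∈ K ∨ g * t ∈ K := fun g => by
    obtain ⟨⟨k, s⟩, hks⟩ := hKS.2 g
    rcases hS s s.2 with e | e
    · left; rw [← hks]; simp [e]
    · right; rw [← hks]; simp [e, mul_assoc, htt]
  have hKt : ∀ k ∈ K, t * k * t ∈ K := fun k hk => by
    have := hKn.conj_mem k hk t
    rwa [inv_eq_of_mul_eq_one_right htt] at this
  have hinv : ∀ k ∈ K, t * k * t = k⁻¹ := by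
    let f : K → K := fun x => ⟨(x : H)⁻¹ * (t * x * t), mul_mem (inv_mem x.2) (hKt _ x.2)⟩
    have hinj : Function.Injective f := by
      intro a b hab
      have h : (a : H)⁻¹ * (t * a * t) = (b : H)⁻¹ * (t * b * t) := congrArg Subtype.val hab
      have h2 : (b : H) * (a : H)⁻¹ = 1 := by
        refine hcent _ (mul_mem b.2 (inv_mem a.2)) fun s hs => ?_
        rcases hS s hs with rfl | rfl
        · simp
        · calc s * ((b : H) * (a : H)⁻¹) = s * (b : H) * s * (s * (a : H) * s)⁻¹ * s := by group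
            _ = (b : H) * (a : H)⁻¹ * s := by
              rw [show s * (b : H) * s = (b : H) * (a : H)⁻¹ * (s * (a : H) * s) by
                rw [mul_assoc (b : H), h, mul_inv_cancel_left], mul_inv_cancel_right]
      exact Subtype.ext (mul_inv_eq_one.mp h2).symm
    intro k hk
    obtain ⟨x, hx⟩ := Finite.surjective_of_injective hinj ⟨k, hk⟩
    have hx' : (x : H)⁻¹ * (t * x * t) = k := congrArg Subtype.val hx
    rw [← hx', mul_inv_rev, mul_inv_rev, mul_inv_rev, inv_inv, inv_eq_of_mul_eq_one_right htt]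
    simp only [← mul_assoc]
    rw [mul_assoc _ t t, htt, mul_one]
  refine ⟨K, t, htK, hdec, fun g hg => ?_, fun v hv => ?_⟩
  · have hgt := (hdec g).resolve_left hg
    calc g * g = (g * t) * (t * (g * t) * t) := by
          simp only [← mul_assoc]
          rw [mul_assoc g t t, htt, mul_one, mul_assoc _ t t, htt, mul_one]
      _ = 1 := by rw [hinv _ hgt, mul_inv_cancel]
  · by_contra hc
    push Not at hc
    have hmem : ∀ g, g • v = v → g ∈ K := fun g hg => by
      by_contra hgK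
      exact hc g hgK hg
    refine hK1 (eq_bot_of_fix hi K hv fun k hk => ?_)
    obtain ⟨q, hq1, hq2⟩ := swap hb (b := v) ⟨k, rfl⟩
    have hqK : q ∈ K := by
      have := hmem (k⁻¹ * q) (by rw [mul_smul, hq1, inv_smul_smul])
      simpa using mul_mem hk this
    rw [← hq1]
    refine fix_of_sq_fix (odd_orderOf_of_mem hKodd hqK) ?_
    rw [hq1, hq2]

end Cfsg.Agent.Lib.BinaryAffine
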