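import Cfsg.Agent.Lib.BinaryAffine.Field
import Cfsg.Agent.Lib.BinaryAffine.TwoMain
import Mathlib.Algebra.Field.TransferInstance
import Mathlib.Logic.Small.Set
import Mathlib.Data.Fintype.Shrink

/-!
An irreducible generalised dihedral linear group in which every vector is fixed by an element
outside the cyclic part is the group of `x ↦ a x`, `x ↦ a σ x` with `a σ a = 1` on a field.
-/

set_option linter.unusedSectionVars false

namespace Cfsg.Agent.Lib.BinaryAffine

universe u v

variable {H : Type u} {V : Type v} [Group H] [Finite H] [AddCommGroup V] [Finite V]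
  [DistribMulAction H V] [FaithfulSMul H V]

/-- The shape of a semilinear norm-one group. -/
def IsNormOneGroup (H : Type u) (V : Type v) [Group H] [AddCommGroup V] [DistribMulAction H V] :
    Prop :=
  ∃ (E : Type) (_ : Field E) (_ : Fintype E) (σ : E ≃+* E) (e : V ≃+ E),
    (∀ x, σ (σ x) = x) ∧ (∃ x, σ x ≠ x) ∧
    ∀ π : V → V, (∃ h : H, ∀ v, h • v = π v) ↔
      ∃ a : E, a * σ a = 1 ∧
        ((∀ v, e (π v) = a * e v) ∨ (∀ v, e (π v) = a * σ (e v)))

theorem normOne_of_dihedral [Nontrivial V] (hi : IsIrr H V) (hd : IsDihedralType H V) :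
    IsNormOneGroup H V := by
  obtain ⟨K, t0, ht0, hdec, hinvol, hfix⟩ := hd
  obtain ⟨v0, hv0⟩ := exists_ne (0 : V)
  obtain ⟨t, htK, htv⟩ := hfix v0 hv0
  have hself : ∀ g, g ∉ K → g⁻¹ = g := fun g hg => inv_eq_of_mul_eq_one_right (hinvol g hg)
  have hmulK : ∀ g h, g ∉ K → h ∉ K → g * h ∈ K := by
    intro g h hg hh
    have h1 := (hdec g).resolve_left hg
    have h2 := (hdec h).resolve_left hh
    rw [← hself h hh, show g * h⁻¹ = (g * t0) * (h * t0)⁻¹ by group]
    exact mul_mem h1 (inv_mem h2)
  have hflip : ∀ g, g ∉ K → ∀ k ∈ K, g * k = k⁻¹ * g := by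
    intro g hg k hk
    have hkg : k * g ∉ K := fun h => hg (by simpa using mul_mem (inv_mem hk) h)
    have h1 := hinvol _ hkg
    calc g * k = k⁻¹ * (k * g * (k * g)) * g⁻¹ := by group
      _ = k⁻¹ * g := by rw [h1, mul_one, hself g hg]
  have hcommK : ∀ k ∈ K, ∀ l ∈ K, k * l = l * k := by
    intro k hk l hl
    have h1 := hflip t htK (k⁻¹ * l⁻¹) (mul_mem (inv_mem hk) (inv_mem hl))
    rw [← mul_assoc, hflip t htK _ (inv_mem hk), inv_inv, mul_assoc, hflip t htK _ (inv_mem hl),
      inv_inv, ← mul_assoc, mul_inv_rev, inv_inv, inv_inv] at h1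
    exact mul_right_cancel h1
  have hiK : IsIrrSet (V := V) (K : Set H) := by
    intro W hW
    by_cases hbot : W = ⊥
    · exact Or.inl hbot
    right
    obtain ⟨v, hvW, hv⟩ : ∃ v ∈ W, v ≠ 0 := by
      by_contra hc
      push Not at hc
      exact hbot ((AddSubgroup.eq_bot_iff_forall W).mpr hc)
    obtain ⟨g, hg, hgv⟩ := hfix v hv
    let W1 : AddSubgroup V := W ⊓ W.comap (DistribSMul.toAddMonoidHom V g)
    have hgW1 : ∀ w ∈ W1, g • w ∈ W1 := fun w hw => ⟨hw.2, by
      show g • g • w ∈ W
      rw [← mul_smul, hinvol g hg, one_smul]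
      exact hw.1⟩
    have hKW1 : ∀ k ∈ K, ∀ w ∈ W1, k • w ∈ W1 := fun k hk w hw => ⟨hW k hk w hw.1, by
      show g • k • w ∈ W
      rw [← mul_smul, hflip g hg k hk, mul_smul]
      exact hW _ (inv_mem hk) _ hw.2⟩
    rcases hi W1 (fun h w hw => by
      by_cases hh : h ∈ K
      · exact hKW1 h hh w hw
      · rw [show h = (h * g) * g by rw [mul_assoc, hinvol g hg, mul_one], mul_smul]
        exact hKW1 _ (hmulK h g hh hg) _ (hgW1 w hw)) with e | e
    · have : v ∈ W1 := ⟨hvW, by show g • v ∈ W; rwa [hgv]⟩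
      rw [e, AddSubgroup.mem_bot] at this
      exact absurd this hv
    · exact eq_top_iff.mpr (e ▸ inf_le_left)
  let L := endo (V := V) (K : Set H)
  let instL : Field L := endoField _ hiK
  have : Finite (AddMonoid.End V) :=
    Finite.of_injective (fun f : AddMonoid.End V => (f : V → V)) DFunLike.coe_injective
  let T : H →* AddMonoid.End V := DistribMulAction.toAddMonoidEnd H V
  have hTK : ∀ k ∈ K, T k ∈ L := fun k hk => mem_endo.mpr fun l hl v => by
    show k • l • v = l • k • v
    rw [← mul_smul, hcommK k hk l hl, mul_smul]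
  have heval : Function.Bijective fun f : L => (f : AddMonoid.End V) v0 := by
    refine ⟨fun f f' h => ?_, fun v => ?_⟩
    · by_contra hne
      have h0 : f - f' ≠ 0 := sub_ne_zero.mpr hne
      have h1 : ((f - f' : L) : AddMonoid.End V) v0 = 0 := by
        show (f : AddMonoid.End V) v0 - (f' : AddMonoid.End V) v0 = 0
        exact sub_eq_zero.mpr h
      have h2 := congrArg (fun x : L => (x : AddMonoid.End V) v0) (inv_mul_cancel₀ h0)
      have h3 : (((f - f')⁻¹ : L) : AddMonoid.End V) (((f - f' : L) : AddMonoid.End V) v0) = v0 :=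
        h2
      rw [h1, map_zero] at h3
      exact hv0 h3.symm
    · let R : AddSubgroup V :=
        { carrier := Set.range fun f : L => (f : AddMonoid.End V) v0
          zero_mem' := ⟨0, rfl⟩
          add_mem' := by rintro _ _ ⟨f, rfl⟩ ⟨f', rfl⟩; exact ⟨f + f', rfl⟩
          neg_mem' := by rintro _ ⟨f, rfl⟩; exact ⟨-f, rfl⟩ }
      rcases hiK R (by rintro k hk _ ⟨f, rfl⟩; exact ⟨⟨T k, hTK k hk⟩ * f, rfl⟩) with e | e
      · have : v0 ∈ R := ⟨1, rfl⟩
        rw [e, AddSubgroup.mem_bot] at this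
        exact absurd this hv0
      · have : v ∈ R := e ▸ AddSubgroup.mem_top v
        exact this
  have htt : ∀ x : V, t • t • x = x := fun x => by rw [← mul_smul, hinvol t htK, one_smul]
  have hconj : ∀ f ∈ L, T t * f * T t ∈ L := fun f hf => mem_endo.mpr fun k hk v => by
    show t • f (t • k • v) = k • t • f (t • v)
    rw [← mul_smul t k, hflip t htK k hk, mul_smul, mem_endo.mp hf _ (inv_mem hk), ← mul_smul,
      hflip t htK _ (inv_mem hk), inv_inv, mul_smul]
  let σL : L ≃+* L :=
    { toFun := fun f => ⟨T t * (f : AddMonoid.End V) * T t, hconj f f.2⟩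
      invFun := fun f => ⟨T t * (f : AddMonoid.End V) * T t, hconj f f.2⟩
      left_inv := fun f => Subtype.ext (by
        ext x; show t • t • (f : AddMonoid.End V) (t • t • x) = _; rw [htt, htt])
      right_inv := fun f => Subtype.ext (by
        ext x; show t • t • (f : AddMonoid.End V) (t • t • x) = _; rw [htt, htt])
      map_mul' := fun f g => Subtype.ext (by
        ext x
        show t • (f : AddMonoid.End V) ((g : AddMonoid.End V) (t • x)) =
          t • (f : AddMonoid.End V) (t • t • (g : AddMonoid.End V) (t • x))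
        rw [htt])
      map_add' := fun f g => Subtype.ext (by
        ext x
        exact smul_add t ((f : AddMonoid.End V) (t • x)) ((g : AddMonoid.End V) (t • x))) }
  have hσv : ∀ f : L, t • (f : AddMonoid.End V) v0 = (σL f : AddMonoid.End V) v0 := fun f => by
    show _ = t • (f : AddMonoid.End V) (t • v0)
    rw [htv]
  -- transfer to a field in the lowest universe
  have : Small.{0} L := Small.mk' (Finite.equivFin L)
  let eS : Shrink.{0} L ≃ L := (equivShrink L).symm
  let fE : Field (Shrink.{0} L) := eS.field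
  let re : Shrink.{0} L ≃+* L := eS.ringEquiv
  let eV : V ≃+ Shrink.{0} L :=
    { toEquiv := (Equiv.ofBijective _ heval).symm.trans eS.symm
      map_add' := fun x y => by
        show re.symm _ = re.symm _ + re.symm _
        rw [← map_add]
        congr 1
        apply (Equiv.ofBijective _ heval).injective
        rw [Equiv.apply_symm_apply]
        show x + y = ((_ + _ : L) : AddMonoid.End V) v0
        exact (congrArg₂ (· + ·) ((Equiv.ofBijective _ heval).apply_symm_apply x)
          ((Equiv.ofBijective _ heval).apply_symm_apply y)).symm }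
  have heV : ∀ f : L, eV ((f : AddMonoid.End V) v0) = re.symm f := fun f => by
    show re.symm _ = _
    congr 1
    exact (Equiv.ofBijective _ heval).symm_apply_apply f
  let σ : Shrink.{0} L ≃+* Shrink.{0} L := re.trans (σL.trans re.symm)
  have hsurj : ∀ v : V, ∃ f : L, (f : AddMonoid.End V) v0 = v := heval.2
  have hk : ∀ (k : H) (hk : k ∈ K) (v : V),
      eV (k • v) = re.symm ⟨T k, hTK k hk⟩ * eV v := by
    intro k hk v
    obtain ⟨f, rfl⟩ := hsurj v
    rw [heV, ← map_mul, ← heV]
    rfl
  have hkt : ∀ (k : H) (hk : k ∈ K) (v : V),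
      eV ((k * t) • v) = re.symm ⟨T k, hTK k hk⟩ * σ (eV v) := by
    intro k hk' v
    obtain ⟨f, rfl⟩ := hsurj v
    rw [mul_smul, hσv, hk k hk', heV, heV]
    show _ = _ * re.symm (σL (re (re.symm f)))
    rw [re.apply_symm_apply]
  have hσk : ∀ (k : H) (hk : k ∈ K), re.symm ⟨T k, hTK k hk⟩ * σ (re.symm ⟨T k, hTK k hk⟩) = 1 := by
    intro k hk'
    show _ * re.symm (σL (re (re.symm _))) = 1
    rw [re.apply_symm_apply, ← map_mul, ← map_one re.symm]
    congr 1
    refine Subtype.ext ?_
    ext x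
    show k • t • k • t • x = x
    rw [← mul_smul k t, ← mul_smul k t, ← mul_smul (k * t) (k * t),
      hinvol _ (fun h => htK (by simpa using mul_mem (inv_mem hk') h)), one_smul]
  have hσσ : ∀ x, σ (σ x) = x := fun x => by
    show re.symm (σL (re (re.symm (σL (re x))))) = x
    rw [re.apply_symm_apply]
    show re.symm (σL.symm (σL (re x))) = x
    rw [RingEquiv.symm_apply_apply, RingEquiv.symm_apply_apply]
  have hne : ∃ x, σ x ≠ x := by
    by_contra hc
    push Not at hc
    refine htK ?_
    have : t = 1 := FaithfulSMul.eq_of_smul_eq_smul (α := V) fun v => by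
      rw [one_smul]
      apply eV.injective
      have h1 := hkt 1 (one_mem K) v
      have h2 := hk 1 (one_mem K) v
      rw [one_mul, hc] at h1
      rw [one_smul] at h2
      exact h1.trans h2.symm
    rw [this]
    exact one_mem K
  have hnorm : ∀ a, a * σ a = 1 → ∃ k, ∃ hk : k ∈ K, re.symm ⟨T k, hTK k hk⟩ = a := by
    intro a ha
    obtain ⟨l, hl0, hl⟩ : ∃ l, l ≠ 0 ∧ a * σ l = l := by
      have hform : ∀ μ, a * σ (μ + a * σ μ) = μ + a * σ μ := fun μ => by
        rw [map_add, map_mul, hσσ, mul_add, ← mul_assoc, ha, one_mul, add_comm]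
      by_cases h1 : 1 + a * σ 1 = 0
      · obtain ⟨μ, hμ⟩ := hne
        refine ⟨μ + a * σ μ, fun h => hμ ?_, hform μ⟩
        rw [map_one, mul_one] at h1
        rw [eq_neg_of_add_eq_zero_right h1, neg_one_mul, ← sub_eq_add_neg, sub_eq_zero] at h
        exact h.symm
      · exact ⟨_, h1, hform 1⟩
    obtain ⟨g, hg, hgv⟩ := hfix (eV.symm l) (by simpa using hl0)
    have hgt : g * t ∈ K := hmulK g t hg htK
    refine ⟨g * t, hgt, ?_⟩
    have := hkt (g * t) hgt (eV.symm l)
    rw [mul_assoc, hinvol t htK, mul_one, hgv, AddEquiv.apply_symm_apply] at this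
    have hσl : σ l ≠ 0 := fun h => hl0 (by simpa using congrArg σ.symm h)
    exact mul_right_cancel₀ hσl (this.symm.trans hl.symm)
  refine ⟨Shrink.{0} L, fE, Fintype.ofFinite _, σ, eV, hσσ, hne, fun π => ⟨?_, ?_⟩⟩
  · rintro ⟨h, hh⟩
    by_cases hhK : h ∈ K
    · exact ⟨_, hσk h hhK, Or.inl fun v => by rw [← hh, hk h hhK]⟩
    · refine ⟨_, hσk (h * t) (hmulK h t hhK htK), Or.inr fun v => ?_⟩
      rw [← hh, ← hkt (h * t) (hmulK h t hhK htK), mul_assoc, hinvol t htK, mul_one]
  · rintro ⟨a, ha, hπ⟩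
    obtain ⟨k, hkK, rfl⟩ := hnorm a ha
    rcases hπ with hπ | hπ
    · exact ⟨k, fun v => eV.injective (by rw [hk k hkK, hπ])⟩
    · exact ⟨k * t, fun v => eV.injective (by rw [hkt k hkK, hπ])⟩

end Cfsg.Agent.Lib.BinaryAffine
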