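import Cfsg.Agent.Lib.BinaryAffine.Basic
import Mathlib.RingTheory.LittleWedderburn
import Mathlib.Algebra.Module.Submodule.Defs

/-!
The field of endomorphisms commuting with an irreducible set of operators.
-/

namespace Cfsg.Agent.Lib.BinaryAffine

variable {H V : Type*} [Group H] [AddCommGroup V] [DistribMulAction H V]

/-- `V` has no proper nonzero subgroup invariant under `S`. -/
def IsIrrSet (S : Set H) : Prop :=
  ∀ W : AddSubgroup V, (∀ s ∈ S, ∀ v ∈ W, s • v ∈ W) → W = ⊥ ∨ W = ⊤

theorem endo_isField [Finite V] [Nontrivial V] (S : Set H) (hi : IsIrrSet (V := V) S) :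
    IsField (endo (V := V) S) := by
  have hzero : ∀ f ∈ endo (V := V) S, ∀ v : V, v ≠ 0 → f v = 0 → f = 0 := by
    intro f hf v hv hfv
    rcases hi (f : V →+ V).ker (fun s hs w hw => by
      show f (s • w) = 0
      rw [mem_endo.mp hf s hs, show f w = 0 from hw, smul_zero]) with e | e
    · have : v ∈ (f : V →+ V).ker := hfv
      rw [e, AddSubgroup.mem_bot] at this
      exact absurd this hv
    · ext w
      have : w ∈ (f : V →+ V).ker := e ▸ AddSubgroup.mem_top w
      exact this
  have : NoZeroDivisors (endo (V := V) S) := ⟨fun {f g} hfg => by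
    rw [or_iff_not_imp_right]
    intro hg
    obtain ⟨v, hv⟩ : ∃ v, (g : AddMonoid.End V) v ≠ 0 := by
      by_contra hc
      push Not at hc
      exact hg (Subtype.ext (by ext w; exact hc w))
    have h : (f : AddMonoid.End V) ((g : AddMonoid.End V) v) = 0 := by
      have := congrArg (fun e : endo (V := V) S => (e : AddMonoid.End V) v) hfg
      exact this
    exact Subtype.ext (hzero f f.2 _ hv h)⟩
  have : Nontrivial (endo (V := V) S) := by
    obtain ⟨v, hv⟩ := exists_ne (0 : V)
    refine ⟨⟨0, 1, fun e => hv ?_⟩⟩
    have := congrArg (fun e : endo (V := V) S => (e : AddMonoid.End V) v) e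
    exact this.symm
  have : Finite (AddMonoid.End V) :=
    Finite.of_injective (fun f : AddMonoid.End V => (f : V → V)) DFunLike.coe_injective
  have : IsDomain (endo (V := V) S) := NoZeroDivisors.to_isDomain _
  exact Finite.isDomain_to_isField _

/-- The commuting endomorphisms of an irreducible set form a field. -/
@[instance_reducible]
noncomputable def endoField [Finite V] [Nontrivial V] (S : Set H) (hi : IsIrrSet (V := V) S) :
    Field (endo (V := V) S) :=
  (endo_isField S hi).toField

end Cfsg.Agent.Lib.BinaryAffine
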