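import Cfsg.Agent.Lib.BinaryAffine.OddMain
import Cfsg.Agent.Lib.BinaryAffine.Dihedral

/-!
The classification of irreducible binary linear groups.
-/

namespace Cfsg.Agent.Lib.BinaryAffine

universe u v

variable {H : Type u} {V : Type v} [Group H] [Finite H] [AddCommGroup V] [Finite V]
  [DistribMulAction H V] [FaithfulSMul H V]

theorem exists_prime_char [Nontrivial V] (hi : IsIrr H V) :
    ∃ p : ℕ, p.Prime ∧ ∀ v : V, p • v = 0 := by
  obtain ⟨p, hp, hpd⟩ := Nat.exists_prime_and_dvd (Finite.one_lt_card (α := V)).ne'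
  have := Fact.mk hp
  obtain ⟨v, hv⟩ := exists_prime_addOrderOf_dvd_card' (G := V) p hpd
  refine ⟨p, hp, fun w => ?_⟩
  let W : AddSubgroup V := (DistribSMul.toAddMonoidHom V p).ker
  rcases hi W (fun h x hx => by
    show p • h • x = 0
    rw [smul_comm, show p • x = 0 from hx, smul_zero]) with e | e
  · have : v ∈ W := by
      show p • v = 0
      rw [← hv, addOrderOf_nsmul_eq_zero]
    rw [e, AddSubgroup.mem_bot] at this
    rw [this, addOrderOf_zero] at hv
    exact absurd hv hp.one_lt.ne
  · have : w ∈ W := e ▸ AddSubgroup.mem_top w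
    exact this

/-- An irreducible binary linear group is small or a semilinear norm-one group. -/
theorem classify [Nontrivial V] (hb : IsBin H V) (hi : IsIrr H V) :
    IsSmall H V ∨ IsNormOneGroup H V := by
  by_cases hreg : ∃ v : V, v ≠ 0 ∧ ∀ h : H, h • v = v → h = 1
  · obtain ⟨v, -, hv⟩ := hreg
    exact Or.inl (small_of_regular hb hi hv)
  right
  push Not at hreg
  have hns : ∀ v : V, v ≠ 0 → ∃ h : H, h ≠ 1 ∧ h • v = v := fun v hv => by
    obtain ⟨h, h1, h2⟩ := hreg v hv
    exact ⟨h, h2, h1⟩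
  obtain ⟨p, hp, hV⟩ := exists_prime_char hi
  refine normOne_of_dihedral hi ?_
  rcases eq_or_ne p 2 with rfl | hp2
  · exact dihedral_of_two (fun v => by rw [← two_nsmul]; exact hV v) hb hi hns
  · have := Fact.mk hp
    exact dihedral_of_odd hb hi p hp2 hV hns

end Cfsg.Agent.Lib.BinaryAffine
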