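import Cfsg.Agent.Lib.BinaryAffine.Basic
import Mathlib.LinearAlgebra.Dual.Lemmas
import Mathlib.LinearAlgebra.FiniteDimensional.Lemmas
import Mathlib.LinearAlgebra.Span.Basic
import Mathlib.FieldTheory.Finite.Basic
import Mathlib.Tactic.LinearCombination

/-!
An irreducible binary linear group of order prime to the characteristic preserves an anisotropic
symmetric bilinear form.
-/

set_option linter.unusedSectionVars false

namespace Cfsg.Agent.Lib.BinaryAffine

variable {H V E : Type*} [Group H] [Finite H] [AddCommGroup V] [Finite V] [DistribMulAction H V]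
  [Field E] [Module E V] [SMulCommClass H E V]

/-- The action of `h` as a linear map. -/
def rho (E : Type*) [Field E] [Module E V] [SMulCommClass H E V] (h : H) : V →ₗ[E] V where
  toFun v := h • v
  map_add' := smul_add h
  map_smul' e v := smul_comm h e v

@[simp] theorem rho_apply (h : H) (v : V) : rho E h v = h • v := rfl

omit [Finite H] [Finite V] in
theorem span_orbit (hi : IsIrr H V) {b : V} (hb0 : b ≠ 0) :
    Submodule.span E (Set.range fun h : H => h • b) = ⊤ := by
  set W := Submodule.span E (Set.range fun h : H => h • b) with hW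
  have hmem : b ∈ W := Submodule.subset_span ⟨1, one_smul _ _⟩
  rcases hi W.toAddSubgroup (fun g v hv => by
    have hle : W ≤ W.comap (rho E g) := Submodule.span_le.mpr (by
      rintro _ ⟨h, rfl⟩
      exact Submodule.subset_span ⟨g * h, mul_smul _ _ _⟩)
    exact hle hv) with e | e
  · exact absurd (by
      have : b ∈ W.toAddSubgroup := hmem
      rwa [e, AddSubgroup.mem_bot] at this) hb0
  · rw [eq_top_iff]
    intro v _
    have : v ∈ W.toAddSubgroup := e ▸ AddSubgroup.mem_top v
    exact this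

theorem natCast_ne_zero (p : ℕ) [Fact p.Prime] (hV : ∀ v : V, p • v = 0) [Nontrivial V] {n : ℕ}
    (hn : ¬ p ∣ n) : (n : E) ≠ 0 := by
  intro h
  obtain ⟨v, hv⟩ := exists_ne (0 : V)
  have ho : addOrderOf v = p := addOrderOf_eq_prime (hV v) hv
  apply hn
  rw [← ho, addOrderOf_dvd_iff_nsmul_eq_zero, ← Nat.cast_smul_eq_nsmul E, h, zero_smul]

/-- An invariant form which is one on a given vector. -/
theorem exists_form [Nontrivial V] (hb : IsBin H V) (hi : IsIrr H V) (p : ℕ) [Fact p.Prime]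
    (hV : ∀ v : V, p • v = 0) (hcop : ¬ p ∣ Nat.card H) {b : V} (hb0 : b ≠ 0) :
    ∃ B : V →ₗ[E] V →ₗ[E] E, (∀ v w, B v w = B w v) ∧
      (∀ (g : H) v w, B (g • v) (g • w) = B v w) ∧ B b b = 1 ∧ ∀ v, B v = 0 → v = 0 := by
  classical
  let A := MulAction.stabilizer H b
  let _ := Fintype.ofFinite A
  let _ := Fintype.ofFinite H
  obtain ⟨l0, hl0⟩ : ∃ l0 : V →ₗ[E] E, l0 b = 1 := by
    obtain ⟨f, hf⟩ : ∃ f : Module.Dual E V, f b ≠ 0 := by
      by_contra hc
      push Not at hc
      exact hb0 ((Module.forall_dual_apply_eq_zero_iff E b).mp hc)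
    exact ⟨(f b)⁻¹ • f, by simp [inv_mul_cancel₀ hf]⟩
  have hn0 : (Fintype.card A : E) ≠ 0 := natCast_ne_zero p hV fun h => hcop (by
    rw [← Nat.card_eq_fintype_card] at h
    exact h.trans (Subgroup.card_subgroup_dvd_card A))
  let lam : V →ₗ[E] E := (Fintype.card A : E)⁻¹ • ∑ a : A, l0.comp (rho E (a : H))
  have hlam : ∀ v, lam v = (Fintype.card A : E)⁻¹ * ∑ a : A, l0 ((a : H) • v) := fun v => by
    simp [lam]
  have hlamA : ∀ a ∈ A, ∀ v, lam (a • v) = lam v := by
    intro a ha v
    rw [hlam, hlam]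
    congr 1
    exact Fintype.sum_equiv (Equiv.mulRight (⟨a, ha⟩ : A)) _ _ fun x => by
      simp [mul_smul]
  have hlamb : lam b = 1 := by
    rw [hlam, Finset.sum_congr rfl fun (a : A) _ => by rw [show (a : H) • b = b from a.2, hl0],
      Finset.sum_const, Finset.card_univ, nsmul_one, inv_mul_cancel₀ hn0]
  have hsym : ∀ h : H, lam (h • b) = lam (h⁻¹ • b) := by
    intro h
    obtain ⟨t, ht1, ht2⟩ := swap hb (b := b) ⟨h, rfl⟩
    have hA : t⁻¹ * h ∈ A := by
      show (t⁻¹ * h) • b = b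
      rw [mul_smul, ← ht1, inv_smul_smul]
    have e : h⁻¹ • b = (t⁻¹ * h)⁻¹ • (h • b) := by
      rw [mul_inv_rev, inv_inv, mul_smul, ht2]
    rw [e, hlamA _ (inv_mem hA)]
  let Ψ : (H → E) →ₗ[E] V := ∑ h : H, (LinearMap.proj h).smulRight (h • b)
  let Φ : (H → E) →ₗ[E] (V →ₗ[E] E) :=
    ∑ h : H, (LinearMap.proj h).smulRight (lam.comp (rho E h⁻¹))
  have hΨ : ∀ c, Ψ c = ∑ h : H, c h • h • b := fun c => by simp [Ψ]
  have hΦ : ∀ c v, Φ c v = ∑ h : H, c h * lam (h⁻¹ • v) := fun c v => by simp [Φ]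
  have hspan := span_orbit (E := E) hi hb0
  have hker : ∀ c, Ψ c = 0 → Φ c = 0 := by
    intro c hc
    refine LinearMap.ext_on hspan ?_
    rintro _ ⟨h, rfl⟩
    rw [hΦ, LinearMap.zero_apply]
    have e : ∀ k : H, lam (k⁻¹ • h • b) = lam (h⁻¹ • k • b) := fun k => by
      rw [← mul_smul, hsym, mul_inv_rev, inv_inv, mul_smul]
    simp only [e]
    have : lam (h⁻¹ • Ψ c) = 0 := by rw [hc, smul_zero, map_zero]
    rw [hΨ, Finset.smul_sum, map_sum] at this
    rw [← this]
    exact Finset.sum_congr rfl fun k _ => by rw [smul_comm h⁻¹ (c k), map_smul lam (c k), smul_eq_mul]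
  have hone : ∀ h : H, Ψ (Pi.single h 1) = h • b := fun h => by
    rw [hΨ, Finset.sum_eq_single h (fun k _ hk => by simp [hk]) (by simp)]
    simp
  obtain ⟨s, hs⟩ := LinearMap.exists_rightInverse_of_surjective Ψ (by
    rw [eq_top_iff, ← hspan, Submodule.span_le]
    rintro _ ⟨h, rfl⟩
    exact ⟨_, hone h⟩)
  let B : V →ₗ[E] V →ₗ[E] E := Φ.comp s
  have hBh : ∀ (h : H) v, B (h • b) v = lam (h⁻¹ • v) := by
    intro h v
    have h0 : Φ (s (h • b) - Pi.single h 1) = 0 := hker _ (by
      rw [map_sub, hone, sub_eq_zero]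
      exact LinearMap.congr_fun hs (h • b))
    rw [map_sub, sub_eq_zero] at h0
    show Φ (s (h • b)) v = _
    rw [h0, hΦ, Finset.sum_eq_single h (fun k _ hk => by simp [hk]) (by simp)]
    simp
  have hsymB : ∀ v w, B v w = B w v := by
    have hflip : B = B.flip := by
      refine LinearMap.ext_on hspan ?_
      rintro _ ⟨h, rfl⟩
      refine LinearMap.ext_on hspan ?_
      rintro _ ⟨k, rfl⟩
      rw [LinearMap.flip_apply, hBh, hBh, ← mul_smul, ← mul_smul, hsym, mul_inv_rev, inv_inv]
    intro v w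
    exact LinearMap.congr_fun (LinearMap.congr_fun hflip v) w
  have hinv : ∀ (g : H) v w, B (g • v) (g • w) = B v w := by
    intro g v w
    have hc : (B.comp (rho E g)).compl₂ (rho E g) = B := by
      refine LinearMap.ext_on hspan ?_
      rintro _ ⟨h, rfl⟩
      refine LinearMap.ext fun w => ?_
      simp only [LinearMap.compl₂_apply, LinearMap.comp_apply, rho_apply]
      rw [← mul_smul, hBh, hBh, mul_inv_rev, mul_smul, inv_smul_smul]
    have := LinearMap.congr_fun (LinearMap.congr_fun hc v) w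
    simpa using this
  have hbb : B b b = 1 := by
    have := hBh 1 b
    rwa [one_smul, inv_one, one_smul, hlamb] at this
  refine ⟨B, hsymB, hinv, hbb, fun v hv => ?_⟩
  rcases hi (LinearMap.ker B).toAddSubgroup (fun g x hx => by
    show B (g • x) = 0
    refine LinearMap.ext fun w => ?_
    rw [← smul_inv_smul g w, hinv, show B x = 0 from hx]
    rfl) with e | e
  · have : v ∈ (LinearMap.ker B).toAddSubgroup := hv
    rwa [e, AddSubgroup.mem_bot] at this
  · have h1 : b ∈ (LinearMap.ker B).toAddSubgroup := e ▸ AddSubgroup.mem_top b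
    have h2 : B b = 0 := h1
    rw [h2] at hbb
    exact absurd hbb (by simp)

/-- The anisotropic form. -/
theorem exists_anisotropic [Nontrivial V] (hb : IsBin H V) (hi : IsIrr H V) (p : ℕ) [Fact p.Prime]
    (hV : ∀ v : V, p • v = 0) (hcop : ¬ p ∣ Nat.card H)
    (hfull : ∀ f : V →+ V, (∀ (h : H) v, f (h • v) = h • f v) → ∃ e : E, ∀ v, f v = e • v) :
    ∃ B : V →ₗ[E] V →ₗ[E] E, (∀ v w, B v w = B w v) ∧
      (∀ (g : H) v w, B (g • v) (g • w) = B v w) ∧ ∀ v, v ≠ 0 → B v v ≠ 0 := by
  obtain ⟨b0, hb0⟩ := exists_ne (0 : V)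
  obtain ⟨B0, hs0, hi0, -, hn0⟩ := exists_form (E := E) hb hi p hV hcop hb0
  have : Module.Finite E V := Module.Finite.of_finite
  refine ⟨B0, hs0, hi0, fun b hb' h0 => ?_⟩
  obtain ⟨B, -, hinv, hbb, -⟩ := exists_form (E := E) hb hi p hV hcop hb'
  have hinj : Function.Injective B0 := (injective_iff_map_eq_zero B0).mpr hn0
  let e := LinearMap.linearEquivOfInjective B0 hinj (Subspace.dual_finrank_eq).symm
  let f : V →+ V := (e.symm.toLinearMap.comp B).toAddMonoidHom
  have hf : ∀ v, B0 (f v) = B v := fun v => e.apply_symm_apply (B v)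
  obtain ⟨c, hc⟩ := hfull f (fun h v => by
    apply hinj
    refine LinearMap.ext fun w => ?_
    rw [hf, ← smul_inv_smul h w, hinv, hi0, hf])
  have := LinearMap.congr_fun (hf b) b
  rw [hc, map_smul, LinearMap.smul_apply, h0, smul_zero, hbb] at this
  exact zero_ne_one this

end Cfsg.Agent.Lib.BinaryAffine
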