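import Cfsg.Agent.Lib.BinaryAffine.OddForm
import Cfsg.Agent.Lib.BinaryAffine.Field
import Cfsg.Agent.Lib.BinaryAffine.TwoMain

/-!
In odd characteristic an irreducible binary linear group without regular orbits is a generalised
dihedral group.
-/

set_option linter.unusedSectionVars false

namespace Cfsg.Agent.Lib.BinaryAffine

variable {H V : Type*} [Group H] [Finite H] [AddCommGroup V] [Finite V] [DistribMulAction H V]
  [FaithfulSMul H V]

section
variable {E : Type*} [Field E] [Module E V] [SMulCommClass H E V]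

/-- No three mutually orthogonal vectors for an anisotropic form. -/
theorem no_three [Finite E] [Nontrivial V] (p : ℕ) [hp : Fact p.Prime] (hp2 : p ≠ 2)
    (hV : ∀ v : V, p • v = 0) (B : V →ₗ[E] V →ₗ[E] E) (hs : ∀ v w, B v w = B w v)
    (han : ∀ v, v ≠ 0 → B v v ≠ 0) {x y z : V} (hx : x ≠ 0) (hy : y ≠ 0) (hz : z ≠ 0)
    (hxy : B x y = 0) (hxz : B x z = 0) (hyz : B y z = 0) : False := by
  classical
  let _ := Fintype.ofFinite E
  have hodd : Fintype.card E % 2 = 1 := by
    refine FiniteField.odd_card_of_char_ne_two fun h2 => hp2 ?_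
    obtain ⟨v, hv⟩ := exists_ne (0 : V)
    have h2v : (2 : ℕ) • v = 0 := by
      rw [← Nat.cast_smul_eq_nsmul E, ← h2, ringChar.Nat.cast_ringChar, zero_smul]
    have ho : addOrderOf v = p := addOrderOf_eq_prime (hV v) hv
    have := addOrderOf_dvd_iff_nsmul_eq_zero.mpr h2v
    rw [ho] at this
    exact (Nat.prime_dvd_prime_iff_eq hp.out Nat.prime_two).mp this
  open Polynomial in
  obtain ⟨a, b, hab⟩ := FiniteField.exists_root_sum_quadratic
    (f := C (B x x) * X ^ 2) (g := C (B y y) * X ^ 2 + C (B z z))
    (by rw [degree_C_mul_X_pow 2 (han x hx)]; rfl)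
    (by
      rw [degree_add_eq_left_of_degree_lt (by
        rw [degree_C_mul_X_pow 2 (han y hy)]
        exact degree_C_le.trans_lt (by norm_num)), degree_C_mul_X_pow 2 (han y hy)]
      rfl) hodd
  simp only [Polynomial.eval_mul, Polynomial.eval_C, Polynomial.eval_pow, Polynomial.eval_X,
    Polynomial.eval_add] at hab
  have hne : a • x + b • y + z ≠ 0 := by
    intro e
    have := congrArg (fun v => B v z) e
    simp [hxz, hyz] at this
    exact han z hz this
  apply han _ hne
  simp [hxy, hxz, hyz, hs y x, hs z x, hs z y]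
  linear_combination hab

theorem dihedral_of_form [Finite E] [Nontrivial V] (p : ℕ) [Fact p.Prime] (hp2 : p ≠ 2)
    (hV : ∀ v : V, p • v = 0) (B : V →ₗ[E] V →ₗ[E] E) (hs : ∀ v w, B v w = B w v)
    (hinv : ∀ (g : H) v w, B (g • v) (g • w) = B v w) (han : ∀ v, v ≠ 0 → B v v ≠ 0)
    (hns : ∀ v : V, v ≠ 0 → ∃ h : H, h ≠ 1 ∧ h • v = v) : IsDihedralType H V := by
  obtain ⟨b, hb0⟩ := exists_ne (0 : V)
  obtain ⟨c, hc0, hbc⟩ : ∃ c : V, c ≠ 0 ∧ B b c = 0 := by
    by_contra hne
    push Not at hne
    obtain ⟨h, hh1, hhb⟩ := hns b hb0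
    refine hh1 (FaithfulSMul.eq_of_smul_eq_smul (α := V) fun v => ?_)
    have hv : v - (B b v / B b b) • b = 0 := by
      by_contra h0
      exact hne _ h0 (by
        rw [map_sub, map_smul, smul_eq_mul, div_mul_cancel₀ _ (han b hb0), sub_self])
    rw [sub_eq_zero] at hv
    rw [one_smul, hv, smul_comm, hhb]
  have hβ : B b b ≠ 0 := han b hb0
  have hγ : B c c ≠ 0 := han c hc0
  have hcb : B c b = 0 := by rw [hs, hbc]
  have decomp : ∀ v : V, v = (B b v / B b b) • b + (B c v / B c c) • c := fun v => by
    rw [← sub_eq_zero]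
    by_contra h0
    refine no_three p hp2 hV B hs han hb0 hc0 h0 hbc ?_ ?_
    · simp [hbc, hβ]
    · simp [hcb, hγ]
  have coord : ∀ (x y : E), B b (x • b + y • c) / B b b = x ∧
      B c (x • b + y • c) / B c c = y := fun x y => by simp [hbc, hcb, hβ, hγ]
  have gv : ∀ (g : H) (x y : E), g • (x • b + y • c) =
      (x * (B b (g • b) / B b b) + y * (B b (g • c) / B b b)) • b +
        (x * (B c (g • b) / B c c) + y * (B c (g • c) / B c c)) • c := fun g x y => by
    rw [smul_add, smul_comm g x b, smul_comm g y c]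
    conv_lhs => rw [decomp (g • b), decomp (g • c)]
    simp only [smul_add, smul_smul, add_smul]
    abel
  let D : H → E := fun g => (B b (g • b) / B b b) * (B c (g • c) / B c c) -
    (B b (g • c) / B b b) * (B c (g • b) / B c c)
  have hD1 : D 1 = 1 := by simp [D, hbc, hcb, hβ, hγ]
  have hDmul : ∀ g h : H, D (g * h) = D g * D h := by
    intro g h
    have e1 := gv g (B b (h • b) / B b b) (B c (h • b) / B c c)
    rw [← decomp, ← mul_smul] at e1
    have e2 := gv g (B b (h • c) / B b b) (B c (h • c) / B c c)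
    rw [← decomp, ← mul_smul] at e2
    simp only [D]
    rw [e1, e2, (coord _ _).1, (coord _ _).1, (coord _ _).2, (coord _ _).2]
    ring
  -- the orthogonality relations
  have rel : ∀ g : H, ∃ a q c' d : E, g • b = a • b + c' • c ∧ g • c = q • b + d • c ∧
      D g = a * d - q * c' ∧ B b b * a ^ 2 + B c c * c' ^ 2 = B b b ∧
      B b b * q ^ 2 + B c c * d ^ 2 = B c c ∧ B b b * (a * q) + B c c * (c' * d) = 0 := by
    intro g
    have e1 := hinv g b b
    have e2 := hinv g c c
    have e3 := hinv g b c
    have f1 := decomp (g • b)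
    have f2 := decomp (g • c)
    have e : D g = (B b (g • b) / B b b) * (B c (g • c) / B c c) -
        (B b (g • c) / B b b) * (B c (g • b) / B c c) := rfl
    generalize B b (g • b) / B b b = a, B b (g • c) / B b b = q,
      B c (g • b) / B c c = c', B c (g • c) / B c c = d at f1 f2 e
    rw [f1] at e1 e3
    rw [f2] at e2 e3
    simp [hbc, hcb] at e1 e2 e3
    exact ⟨a, q, c', d, f1, f2, e, by linear_combination e1, by linear_combination e2,
      by linear_combination e3⟩
  have hDsq : ∀ g : H, D g = 1 ∨ D g = -1 := by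
    intro g
    obtain ⟨a, q, c', d, -, -, e, r1, r2, r3⟩ := rel g
    refine mul_self_eq_one_iff.mp (mul_left_cancel₀ (mul_ne_zero hβ hγ) ?_)
    rw [mul_one, e]
    linear_combination (B b b * q ^ 2 + B c c * d ^ 2) * r1 + B b b * r2 -
      (B b b * (a * q) + B c c * (c' * d)) * r3
  have hneg : ∀ g : H, D g = -1 → g * g = 1 := by
    intro g hg
    obtain ⟨a, q, c', d, f1, f2, e, r1, r2, r3⟩ := rel g
    rw [hg] at e
    have htr : a + d = 0 := by
      refine (mul_eq_zero.mp (?_ : B b b * (a + d) = 0)).resolve_left hβ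
      linear_combination -(B b b * a) * e - d * r1 + c' * r3
    refine FaithfulSMul.eq_of_smul_eq_smul (α := V) fun v => ?_
    have hgb : g • g • b = b := by
      rw [f1, smul_add, smul_comm g a b, smul_comm g c' c, f1, f2]
      simp only [smul_add, smul_smul]
      rw [add_add_add_comm, ← add_smul, ← add_smul,
        show a * a + c' * q = 1 by linear_combination a * htr + e,
        show a * c' + c' * d = 0 by linear_combination c' * htr, one_smul, zero_smul, add_zero]
    have hgc : g • g • c = c := by
      rw [f2, smul_add, smul_comm g q b, smul_comm g d c, f1, f2]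
      simp only [smul_add, smul_smul]
      rw [add_add_add_comm, ← add_smul, ← add_smul,
        show q * a + d * q = 0 by linear_combination q * htr,
        show q * c' + d * d = 1 by linear_combination d * htr + e, one_smul, zero_smul, zero_add]
    rw [one_smul, mul_smul, decomp v, smul_add, smul_add, smul_comm g _ b, smul_comm g _ c,
      smul_comm g _ (g • b), smul_comm g _ (g • c), hgb, hgc]
  have hfix : ∀ (g : H) (v : V), g ≠ 1 → v ≠ 0 → g • v = v → D g = -1 := by
    intro g v hg1 hv hgv
    refine (hDsq g).resolve_left fun h1 => hg1 ?_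
    obtain ⟨a, q, c', d, f1, f2, e, r1, r2, r3⟩ := rel g
    rw [h1] at e
    have hadd : a = d := by
      refine mul_left_cancel₀ hβ ?_
      linear_combination (B b b * a) * e + d * r1 - c' * r3
    set x := B b v / B b b
    set y := B c v / B c c
    have hv' : v = x • b + y • c := decomp v
    rw [hv'] at hgv
    have eb := congrArg (fun w => B b w / B b b) hgv
    have ec := congrArg (fun w => B c w / B c c) hgv
    rw [smul_add, smul_comm g x b, smul_comm g y c, f1, f2] at eb ec
    simp [hbc, hcb] at eb ec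
    field_simp at eb ec
    have hdet : a = 1 := by
      by_contra ha
      have h2 : (2 : E) * (1 - a) ≠ 0 := by
        refine mul_ne_zero (fun h => ?_) (sub_ne_zero.mpr (Ne.symm ha))
        refine natCast_ne_zero (E := E) (V := V) p hV (n := 2)
          (fun hd => hp2 ((Nat.prime_dvd_prime_iff_eq Fact.out Nat.prime_two).mp hd)) ?_
        exact_mod_cast h
      apply hv
      rw [hv', show x = 0 from (mul_eq_zero.mp (?_ : (2 * (1 - a)) * x = 0)).resolve_left h2,
        show y = 0 from (mul_eq_zero.mp (?_ : (2 * (1 - a)) * y = 0)).resolve_left h2,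
        zero_smul, zero_smul, add_zero]
      · linear_combination (a - 1) * ec - c' * eb + y * e - y * hadd
      · linear_combination (d - 1) * eb - q * ec + x * e - x * hadd
    rw [hdet, one_pow, mul_one, add_eq_left, mul_eq_zero, or_iff_right hγ, pow_eq_zero_iff
      two_ne_zero] at r1
    rw [r1, hdet, one_mul, zero_mul, mul_zero, add_zero, mul_eq_zero, or_iff_right hβ] at r3
    refine FaithfulSMul.eq_of_smul_eq_smul (α := V) fun w => ?_
    rw [one_smul, decomp w, smul_add, smul_comm g _ b, smul_comm g _ c, f1, f2, hdet, r1, r3,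
      ← hadd, hdet]
    simp
  let K : Subgroup H :=
    { carrier := {g | D g = 1}
      one_mem' := hD1
      mul_mem' := fun {g h} hg hh => by
        show D (g * h) = 1
        rw [hDmul, hg, hh, one_mul]
      inv_mem' := fun {g} hg => by
        show D g⁻¹ = 1
        have := hDmul g g⁻¹
        rwa [mul_inv_cancel, hD1, hg, one_mul, eq_comm] at this }
  have hne : (-1 : E) ≠ 1 := fun h => by
    refine natCast_ne_zero (E := E) (V := V) p hV (n := 2)
      (fun hd => hp2 ((Nat.prime_dvd_prime_iff_eq Fact.out Nat.prime_two).mp hd)) ?_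
    push_cast
    linear_combination -h
  obtain ⟨t, ht1, htb⟩ := hns b hb0
  have htD := hfix t b ht1 hb0 htb
  refine ⟨K, t, fun h => hne (htD.symm.trans h), fun g => ?_, fun g hg => ?_, fun v hv => ?_⟩
  · refine (hDsq g).imp id fun h => ?_
    show D (g * t) = 1
    rw [hDmul, h, htD, neg_mul_neg, one_mul]
  · exact hneg g ((hDsq g).resolve_left hg)
  · obtain ⟨g, hg1, hgv⟩ := hns v hv
    exact ⟨g, fun h => hne ((hfix g v hg1 hv hgv).symm.trans h), hgv⟩

end

/-- The structure theorem in odd characteristic. -/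
theorem dihedral_of_odd [Nontrivial V] (hb : IsBin H V) (hi : IsIrr H V) (p : ℕ) [Fact p.Prime]
    (hp2 : p ≠ 2) (hV : ∀ v : V, p • v = 0)
    (hns : ∀ v : V, v ≠ 0 → ∃ h : H, h ≠ 1 ∧ h • v = v) : IsDihedralType H V := by
  let _ : Field (endo (V := V) (Set.univ : Set H)) :=
    endoField _ fun W hW => hi W fun h v hv => hW h (Set.mem_univ h) v hv
  have : SMulCommClass H (endo (V := V) (Set.univ : Set H)) V :=
    ⟨fun h f v => (mem_endo.mp f.2 h (Set.mem_univ h) v).symm⟩
  have : Finite (AddMonoid.End V) :=
    Finite.of_injective (fun f : AddMonoid.End V => (f : V → V)) DFunLike.coe_injective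
  obtain ⟨B, h1, h2, h3⟩ := exists_anisotropic (E := endo (V := V) (Set.univ : Set H)) hb hi p hV
    (not_dvd_card hb p hp2 hV) fun f hf =>
      ⟨⟨f, mem_endo.mpr fun h _ v => hf h v⟩, fun _ => rfl⟩
  exact dihedral_of_form p hp2 hV B h1 h2 h3 hns

end Cfsg.Agent.Lib.BinaryAffine
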