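import Cfsg.Agent.Lib.BinaryAffine.TwoFusion
import Cfsg.Agent.Lib.BinaryAffine.Averaging

/-!
The action of an elementary abelian Sylow `2`-subgroup on an abelian normal subgroup of odd order,
and the resulting decomposition of the space.
-/

set_option linter.unusedSectionVars false

namespace Cfsg.Agent.Lib.BinaryAffine

variable {H V : Type*} [Group H] [Finite H] [AddCommGroup V] [DistribMulAction H V]
  [FaithfulSMul H V]

/-- An element of `N` that every element of `S` centralises or inverts. -/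
def IsEig (S : Sylow 2 H) (N : Subgroup H) (y : H) : Prop :=
  y ∈ N ∧ ∀ s ∈ (S : Subgroup H), s * y * s = y ∨ s * y * s = y⁻¹

/-- The elements of `N` centralised by the elements of `S` that centralise `y`. -/
def cen (S : Sylow 2 H) (N : Subgroup H) (y : H) : Subgroup H where
  carrier := {n | n ∈ N ∧ ∀ s ∈ (S : Subgroup H), s * y = y * s → s * n = n * s}
  one_mem' := ⟨one_mem _, fun s _ _ => by simp⟩
  mul_mem' := fun {a b} ha hb => ⟨mul_mem ha.1 hb.1, fun s hs h => by
    rw [← mul_assoc, ha.2 s hs h, mul_assoc, hb.2 s hs h, mul_assoc]⟩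
  inv_mem' := fun {a} ha => ⟨inv_mem ha.1, fun s hs h => (Commute.inv_right (ha.2 s hs h)).eq⟩

theorem mem_cen {S : Sylow 2 H} {N : Subgroup H} {y n : H} :
    n ∈ cen S N y ↔ n ∈ N ∧ ∀ s ∈ (S : Subgroup H), s * y = y * s → s * n = n * s := Iff.rfl

/-- The part of `V` on which `cen S N y` has no fixed vectors. -/
def part (S : Sylow 2 H) (N : Subgroup H) (y : H) : AddSubgroup V where
  carrier := {v | orbitSum (cen S N y) v = 0}
  zero_mem' := orbitSum_zero _
  add_mem' := fun {a b} ha hb => by
    show orbitSum (cen S N y) (a + b) = 0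
    rw [orbitSum_add, ha, hb, add_zero]
  neg_mem' := fun {a} ha => by
    show orbitSum (cen S N y) (-a) = 0
    have := orbitSum_add (cen S N y) (-a) a
    rwa [neg_add_cancel, orbitSum_zero, ha, add_zero, eq_comm] at this

theorem mem_part {S : Sylow 2 H} {N : Subgroup H} {y : H} {v : V} :
    v ∈ part S N y ↔ orbitSum (cen S N y) v = 0 := Iff.rfl

/-- The hypotheses of this file. -/
structure TwoData (H V : Type*) [Group H] [AddCommGroup V] [DistribMulAction H V]
    (S : Sylow 2 H) (N : Subgroup H) : Prop where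
  hV : ∀ v : V, v + v = 0
  hb : IsBin H V
  hi : IsIrr H V
  normal : N.Normal
  comm : ∀ x ∈ N, ∀ y ∈ N, x * y = y * x
  odd : Odd (Nat.card N)
  ne_bot : N ≠ ⊥
  cent : ∀ y ∈ N, (∀ s ∈ (S : Subgroup H), s * y = y * s) → y = 1

namespace TwoData

variable {S : Sylow 2 H} {N : Subgroup H} (d : TwoData H V S N)
include d

theorem ss {s : H} (hs : s ∈ (S : Subgroup H)) : s * s = 1 := sylow_sq d.hV d.hb S hs

theorem scomm {s r : H} (hs : s ∈ (S : Subgroup H)) (hr : r ∈ (S : Subgroup H)) : s * r = r * s :=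
  sylow_comm d.hV d.hb S hs hr

theorem conj_mem {s n : H} (hs : s ∈ (S : Subgroup H)) (hn : n ∈ N) : s * n * s ∈ N := by
  have := d.normal.conj_mem n hn s
  rwa [inv_eq_of_mul_eq_one_right (d.ss hs)] at this

theorem conj_conj {s : H} (hs : s ∈ (S : Subgroup H)) (n : H) : s * (s * n * s) * s = n := by
  simp only [← mul_assoc, d.ss hs, one_mul]
  rw [mul_assoc, d.ss hs, mul_one]

theorem conj_eq_iff {s n : H} (hs : s ∈ (S : Subgroup H)) : s * n * s = n ↔ s * n = n * s := by
  constructor
  · intro h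
    calc s * n = s * n * s * s := by rw [mul_assoc _ s s, d.ss hs, mul_one]
      _ = n * s := by rw [h]
  · intro h
    rw [h, mul_assoc, d.ss hs, mul_one]

theorem inv_conj {s : H} (hs : s ∈ (S : Subgroup H)) (a : H) : s * a⁻¹ * s = (s * a * s)⁻¹ := by
  rw [mul_inv_rev, mul_inv_rev, inv_eq_of_mul_eq_one_right (d.ss hs), mul_assoc]

theorem cen_le (y : H) : cen S N y ≤ N := fun _ h => h.1

theorem odd_cen (y : H) : Odd (Nat.card (cen S N y)) :=
  d.odd.of_dvd_nat (Subgroup.card_dvd_of_le (d.cen_le y))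

theorem mem_cen_self {y : H} (hy : IsEig S N y) : y ∈ cen S N y := ⟨hy.1, fun _ _ h => h⟩

/-- A subgroup of `N` containing all eigen-elements is all of `N`. -/
theorem le_of_eig {P : Subgroup H} (hP : ∀ y, IsEig S N y → y ∈ P) : N ≤ P := by
  classical
  have key : ∀ L : Finset H, (∀ s ∈ L, s ∈ (S : Subgroup H)) → ∀ n ∈ N,
      (∀ s ∈ (S : Subgroup H), s ∉ L → s * n * s = n ∨ s * n * s = n⁻¹) → n ∈ P := by
    intro L
    induction L using Finset.induction_on with
    | empty => exact fun _ n hn h => hP n ⟨hn, fun s hs => h s hs (by simp)⟩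
    | insert s L hsL ih =>
      intro hL n hn h
      have hs := hL s (Finset.mem_insert_self s L)
      have hL' : ∀ r ∈ L, r ∈ (S : Subgroup H) := fun r hr => hL r (Finset.mem_insert_of_mem hr)
      obtain ⟨m, hm⟩ : ∃ m, m = s * n * s := ⟨_, rfl⟩
      have hmN : m ∈ N := hm ▸ d.conj_mem hs hn
      have hnm : n * m = m * n := d.comm n hn m hmN
      have pres : ∀ r ∈ (S : Subgroup H), r ∉ L → r ≠ s →
          (r * m * r = m ∧ r * n * r = n) ∨ (r * m * r = m⁻¹ ∧ r * n * r = n⁻¹) := by
        intro r hr hrL hrs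
        have hrsc := d.scomm hr hs
        have e : r * m * r = s * (r * n * r) * s := by
          rw [hm]
          calc r * (s * n * s) * r = (r * s) * n * (s * r) := by group
            _ = (s * r) * n * (r * s) := by rw [hrsc]
            _ = s * (r * n * r) * s := by group
        rcases h r hr (by simp [hrL, hrs]) with h1 | h1
        · exact Or.inl ⟨by rw [e, h1, hm], h1⟩
        · refine Or.inr ⟨?_, h1⟩
          rw [e, h1, d.inv_conj hs, ← hm]
      have hprod : ∀ r ∈ (S : Subgroup H), ∀ a b : H, r * (a * b) * r = (r * a * r) * (r * b * r) :=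
        fun r hr a b => by
          calc r * (a * b) * r = r * a * (r * r) * b * r := by rw [d.ss hr, mul_one]; group
            _ = (r * a * r) * (r * b * r) := by group
      have h1 : n * m ∈ P := by
        refine ih hL' _ (mul_mem hn hmN) fun r hr hrL => ?_
        by_cases hrs : r = s
        · subst hrs
          left
          rw [hprod r hr, ← hm, hm, d.conj_conj hr, ← hm, hnm]
        · rcases pres r hr hrL hrs with ⟨a, b⟩ | ⟨a, b⟩
          · left; rw [hprod r hr, a, b]
          · right; rw [hprod r hr, a, b, hnm, mul_inv_rev]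
      have h2 : n * m⁻¹ ∈ P := by
        refine ih hL' _ (mul_mem hn (inv_mem hmN)) fun r hr hrL => ?_
        have hinv := d.inv_conj hr m
        by_cases hrs : r = s
        · subst hrs
          right
          rw [hprod r hr, hinv, hm, d.conj_conj hr, mul_inv_rev, inv_inv]
        · rcases pres r hr hrL hrs with ⟨a, b⟩ | ⟨a, b⟩
          · left; rw [hprod r hr, hinv, a, b]
          · right
            rw [hprod r hr, hinv, a, b, inv_inv, mul_inv_rev, inv_inv,
              ← d.comm _ (inv_mem hn) _ hmN]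
      have hsq : n * n ∈ P := by
        have hmem := mul_mem h1 h2
        rwa [hnm, ← d.comm (n) hn (m) hmN, mul_assoc, ← mul_assoc m n m⁻¹, ← hnm,
          mul_assoc n m m⁻¹, mul_inv_cancel, mul_one] at hmem
      obtain ⟨j, hj⟩ := odd_orderOf_of_mem d.odd hn
      have hpow : n = (n * n) ^ (j + 1) := by
        rw [← sq, ← pow_mul, show 2 * (j + 1) = 2 * j + 1 + 1 by ring, pow_succ, ← hj,
          pow_orderOf_eq_one, one_mul]
      rw [hpow]
      exact pow_mem hsq _
  intro n hn
  have := Fintype.ofFinite H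
  exact key (Finset.univ.filter (· ∈ (S : Subgroup H))) (fun s hs => by simpa using hs) n hn
    fun s hs h => absurd (by simp [hs]) h

theorem exists_eig_smul_ne {v : V} (hv : v ≠ 0) : ∃ y, IsEig S N y ∧ y • v ≠ v := by
  by_contra hc
  push Not at hc
  have hle : N ≤ MulAction.stabilizer H v := d.le_of_eig fun y hy => hc y hy
  have := d.normal
  exact d.ne_bot (eq_bot_of_fix d.hi N hv fun n hn => hle hn)

theorem exists_not_comm {y : H} (hy : IsEig S N y) (hy1 : y ≠ 1) :
    ∃ s ∈ (S : Subgroup H), ¬ s * y = y * s := by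
  by_contra hc
  push Not at hc
  exact hy1 (d.cent y hy.1 hc)

theorem conj_eq_inv {y s : H} (hy : IsEig S N y) (hs : s ∈ (S : Subgroup H))
    (h : ¬ s * y = y * s) : s * y * s = y⁻¹ :=
  (hy.2 s hs).resolve_left fun e => h ((d.conj_eq_iff hs).mp e)

/-- Two elements of `S` inverting an eigen-element have a product centralising it. -/
theorem mul_comm_of_not {y s r : H} (hy : IsEig S N y) (hs : s ∈ (S : Subgroup H))
    (hr : r ∈ (S : Subgroup H)) (h1 : ¬ s * y = y * s) (h2 : ¬ r * y = y * r) :
    (s * r) * y = y * (s * r) := by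
  apply (d.conj_eq_iff (mul_mem hs hr)).mp
  have e1 := d.conj_eq_inv hy hs h1
  have e2 := d.conj_eq_inv hy hr h2
  calc s * r * y * (s * r) = s * r * y * (r * s) := by rw [d.scomm hs hr]
    _ = s * (r * y * r) * s := by group
    _ = (s * y * s)⁻¹ := by
      rw [e2, mul_inv_rev, mul_inv_rev, inv_eq_of_mul_eq_one_right (d.ss hs), mul_assoc]
    _ = y := by rw [e1, inv_inv]

/-- If some element of `S` centralises `y` but not `z`, then some centralises `z` but not `y`. -/
theorem exch {y z r : H} (hy : IsEig S N y) (hz : IsEig S N z) (hy1 : y ≠ 1) (_hz1 : z ≠ 1)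
    (hr : r ∈ (S : Subgroup H)) (hry : r * y = y * r) (hrz : ¬ r * z = z * r) :
    ∃ s ∈ (S : Subgroup H), s * z = z * s ∧ ¬ s * y = y * s := by
  obtain ⟨s, hs, hsy⟩ := d.exists_not_comm hy hy1
  by_cases hsz : s * z = z * s
  · exact ⟨s, hs, hsz, hsy⟩
  refine ⟨s * r, mul_mem hs hr, d.mul_comm_of_not hz hs hr hsz hrz, fun e => hsy ?_⟩
  have hc : Commute (s * r * r) y := Commute.mul_left e hry
  rwa [mul_assoc, d.ss hr, mul_one] at hc

/-- An element of `S` inverting `y` inverts `cen S N y`. -/
theorem inv_cen {y s : H} (hy : IsEig S N y) (hs : s ∈ (S : Subgroup H))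
    (h : ¬ s * y = y * s) {n : H} (hn : n ∈ cen S N y) : s * n * s = n⁻¹ := by
  have hsn : s * n * s ∈ N := d.conj_mem hs hn.1
  have hss : Commute s (n * (s * n * s)) := by
    apply (d.conj_eq_iff hs).mp
    calc s * (n * (s * n * s)) * s = (s * n * s) * (n * (s * s)) := by group
      _ = n * (s * n * s) := by rw [d.ss hs, mul_one, d.comm _ hsn _ hn.1]
  have key : n * (s * n * s) = 1 := by
    refine d.cent _ (mul_mem hn.1 hsn) fun t ht => ?_
    have base : ∀ t ∈ (S : Subgroup H), t * y = y * t → Commute t (n * (s * n * s)) := by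
      intro t ht hty
      have hts : Commute t s := d.scomm ht hs
      have htn : Commute t n := hn.2 t ht hty
      exact htn.mul_right ((hts.mul_right htn).mul_right hts)
    by_cases hty : t * y = y * t
    · exact base t ht hty
    · have h2 := (base (s * t) (mul_mem hs ht) (d.mul_comm_of_not hy hs ht h hty))
      have h3 := hss.mul_left h2
      rwa [← mul_assoc, d.ss hs, one_mul] at h3
  exact (inv_eq_of_mul_eq_one_right key).symm

/-- `part` is invariant under `N`. -/
theorem part_smul {y n : H} (hn : n ∈ N) {v : V} (hv : v ∈ part S N y) :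
    n • v ∈ part S N y := by
  rw [mem_part] at hv ⊢
  rw [orbitSum_comm (cen S N y) (Equiv.refl _) (g := n) (v := v) fun m => by
    rw [Equiv.refl_apply, ← mul_smul, ← mul_smul, d.comm m m.2.1 n hn], hv, smul_zero]

theorem part_smul_sylow {y s : H} (hs : s ∈ (S : Subgroup H)) {v : V} (hv : v ∈ part S N y) :
    s • v ∈ part S N y := by
  rw [mem_part] at hv ⊢
  have hmem : ∀ m ∈ cen S N y, s * m * s ∈ cen S N y := fun m hm =>
    ⟨d.conj_mem hs hm.1, fun t ht hty => by
      have hts : Commute t s := d.scomm ht hs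
      exact ((hts.mul_right (hm.2 t ht hty)).mul_right hts).eq⟩
  let e : cen S N y ≃ cen S N y :=
    { toFun := fun m => ⟨s * m * s, hmem m m.2⟩
      invFun := fun m => ⟨s * m * s, hmem m m.2⟩
      left_inv := fun m => Subtype.ext (d.conj_conj hs m)
      right_inv := fun m => Subtype.ext (d.conj_conj hs m) }
  rw [orbitSum_comm (cen S N y) e (g := s) (v := v) fun m => by
    show _ = s • (s * (m : H) * s) • v
    rw [← mul_smul, ← mul_smul]
    congr 1
    simp only [← mul_assoc, d.ss hs, one_mul], hv, smul_zero]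

/-- An element of `S` centralising `y` fixes `part S N y` pointwise. -/
theorem part_fix {y s : H} (hs : s ∈ (S : Subgroup H)) (hsy : s * y = y * s)
    {v : V} (hv : v ∈ part S N y) : s • v = v := by
  let _ := Fintype.ofFinite (cen S N y)
  have h1 : orbitSum (cen S N y) v + Nat.card (cen S N y) • v =
      ∑ m : cen S N y, ((m : H) • v + v) := by
    simp [orbitSum, Finset.sum_add_distrib, Nat.card_eq_fintype_card]
  rw [mem_part.mp hv, zero_add, nsmul_of_odd d.hV (d.odd_cen y)] at h1
  rw [h1, Finset.smul_sum]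
  exact Finset.sum_congr rfl fun m _ => fix_sub d.hV d.hb (d.ss hs) (m.2.2 s hs hsy).symm v

theorem part_eq_zero_of_fix {y : H} (hy : IsEig S N y) (hy1 : y ≠ 1) {v : V}
    (hv : v ∈ part S N y)
    (h : ∀ m ∈ cen S N y, ∀ s ∈ (S : Subgroup H), s • (m • v) = m • v) : v = 0 := by
  obtain ⟨s, hs, hsy⟩ := d.exists_not_comm hy hy1
  have hfix : ∀ m ∈ cen S N y, m • v = v := by
    intro m hm
    refine fix_of_sq_fix (odd_orderOf_of_mem d.odd hm.1) ?_
    have h1 := h m hm s hs
    have h2 : s • v = v := by simpa using h 1 (one_mem _) s hs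
    have h3 : s * m = m⁻¹ * s := by
      rw [← d.inv_cen hy hs hsy hm, mul_assoc, d.ss hs, mul_one]
    rw [← mul_smul, h3, mul_smul, h2, inv_smul_eq_iff] at h1
    exact h1.symm
  have := orbitSum_of_fix _ hfix
  rwa [mem_part.mp hv, nsmul_of_odd d.hV (d.odd_cen y), eq_comm] at this

/-- Different eigen-parts meet trivially. -/
theorem part_disjoint {y z r : H} (hy : IsEig S N y) (hy1 : y ≠ 1) (hz : IsEig S N z)
    (hr : r ∈ (S : Subgroup H)) (hrz : r * z = z * r) (hry : ¬ r * y = y * r) {v : V}
    (hv : v ∈ part S N y) (hw : v ∈ part S N z) : v = 0 := by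
  refine d.part_eq_zero_of_fix hy hy1 hv fun m hm s hs => ?_
  have hv' : m • v ∈ part S N y := d.part_smul hm.1 hv
  have hw' : m • v ∈ part S N z := d.part_smul hm.1 hw
  have _ := hz
  by_cases hsy : s * y = y * s
  · exact d.part_fix hs hsy hv'
  · have h1 := d.part_fix (mul_mem hs hr) (d.mul_comm_of_not hy hs hr hsy hry) hv'
    rwa [mul_smul, d.part_fix hr hrz hw'] at h1

/-- An eigen-element with another centraliser in `S` acts trivially on `part S N y`. -/
theorem part_trivial {y z r : H} (hy : IsEig S N y) (hy1 : y ≠ 1) (hz : IsEig S N z)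
    (hr : r ∈ (S : Subgroup H)) (hrz : r * z = z * r) (hry : ¬ r * y = y * r) {v : V}
    (hv : v ∈ part S N y) : z • v = v := by
  refine sub_eq_zero.mp ?_
  rw [sub_two d.hV]
  refine d.part_eq_zero_of_fix hy hy1 (add_mem (d.part_smul hz.1 hv) hv) fun m hm s hs => ?_
  rw [smul_add, ← mul_smul m z, d.comm m hm.1 z hz.1, mul_smul]
  by_cases hsy : s * y = y * s
  · exact d.part_fix hs hsy (add_mem (d.part_smul hz.1 (d.part_smul hm.1 hv)) (d.part_smul hm.1 hv))
  · have hrfix : r • (z • m • v + m • v) = z • m • v + m • v :=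
      fix_sub d.hV d.hb (d.ss hr) hrz.symm _
    have h1 := d.part_fix (mul_mem hs hr) (d.mul_comm_of_not hy hs hr hsy hry)
      (add_mem (d.part_smul hz.1 (d.part_smul hm.1 hv)) (d.part_smul hm.1 hv))
    rwa [mul_smul, hrfix] at h1

/-- An element of `S` inverting `y` inverts the action of `N` on `part S N y`. -/
theorem part_inverts {y r : H} (hy : IsEig S N y) (hy1 : y ≠ 1) (hr : r ∈ (S : Subgroup H))
    (hry : ¬ r * y = y * r) {n : H} (hn : n ∈ N) {v : V} (hv : v ∈ part S N y) :
    r • n • v = n⁻¹ • r • v := by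
  let P : Subgroup H :=
    { carrier := {a | a ∈ N ∧ ∀ w ∈ part (V := V) S N y, r • a • w = a⁻¹ • r • w}
      one_mem' := ⟨one_mem _, fun w _ => by simp⟩
      mul_mem' := fun {a b} ha hb => ⟨mul_mem ha.1 hb.1, fun w hw => by
        rw [mul_smul, ha.2 _ (d.part_smul hb.1 hw), hb.2 w hw, ← mul_smul,
          ← d.comm _ (inv_mem hb.1) _ (inv_mem ha.1), ← mul_inv_rev]⟩
      inv_mem' := fun {a} ha => ⟨inv_mem ha.1, fun w hw => by
        have := ha.2 _ (d.part_smul (inv_mem ha.1) hw)
        rw [smul_inv_smul] at this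
        rw [inv_inv, this, smul_inv_smul]⟩ }
  suffices hP : N ≤ P from (hP hn).2 v hv
  refine d.le_of_eig fun z hz => ⟨hz.1, fun w hw => ?_⟩
  by_cases hsame : ∀ s ∈ (S : Subgroup H), s * y = y * s → s * z = z * s
  · have hzc : z ∈ cen S N y := ⟨hz.1, hsame⟩
    have h3 : r * z = z⁻¹ * r := by
      rw [← d.inv_cen hy hr hry hzc, mul_assoc, d.ss hr, mul_one]
    rw [← mul_smul, h3, mul_smul]
  · push Not at hsame
    obtain ⟨s, hs, hsy, hsz⟩ := hsame
    have hz1 : z ≠ 1 := fun e => hsz (by simp [e])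
    obtain ⟨q, hq, hqz, hqy⟩ := d.exch hy hz hy1 hz1 hs hsy hsz
    have hfix : ∀ u ∈ part S N y, z • u = u := fun u hu => d.part_trivial hy hy1 hz hq hqz hqy hu
    have hrw := d.part_smul_sylow hr hw
    rw [hfix w hw, eq_comm, inv_smul_eq_iff]
    exact (hfix _ hrw).symm

end TwoData

end Cfsg.Agent.Lib.BinaryAffine
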