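import Cfsg.Agent.Lib.BinaryAffine.Basic
import Mathlib.GroupTheory.Transfer
import Mathlib.GroupTheory.Sylow

/-!
Binary linear groups in characteristic two: a Sylow `2`-subgroup is elementary abelian and central
in its normalizer, so there is a normal `2`-complement.
-/

open scoped Pointwise

namespace Cfsg.Agent.Lib.BinaryAffine

variable {H V : Type*} [Group H] [AddCommGroup V] [DistribMulAction H V]

set_option linter.unusedSectionVars false

section
variable (hV : ∀ v : V, v + v = 0) (hb : IsBin H V)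
include hV

theorem sub_two (x y : V) : x - y = x + y := by
  rw [sub_eq_add_neg, neg_eq_of_add_eq_zero_left (hV y)]

include hb

theorem comm_fix {g s : H} (hs : s * s = 1) (hc : g * s = s * g) (b : V) :
    g • (b + s • b) = b + s • b := by
  refine fix_of_sub_eq hb (b := g • b + b) (k := s) ?_ ?_
  · rw [smul_add, ← mul_smul, hs, one_smul, add_comm]
  · rw [sub_two hV, sub_two hV, smul_add, smul_add, ← mul_smul, ← mul_smul, ← hc]
    abel

theorem fix_sub {g s : H} (hs : s * s = 1) (hc : g * s = s * g) (b : V) :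
    s • (g • b + b) = g • b + b := by
  have h := comm_fix hV hb hs hc b
  rw [smul_add, ← mul_smul g s, hc, mul_smul] at h
  have e : s • g • b = b + s • b + g • b := by
    rw [← h, add_comm (g • b) (s • g • b), add_assoc, hV, add_zero]
  rw [smul_add, e]
  calc b + s • b + g • b + s • b = b + g • b + (s • b + s • b) := by abel
    _ = g • b + b := by rw [hV, add_zero, add_comm]

theorem sq_of_four [FaithfulSMul H V] {z : H} (hz : (z * z) * (z * z) = 1) : z * z = 1 := by
  refine FaithfulSMul.eq_of_smul_eq_smul (α := V) fun b => ?_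
  rw [one_smul]
  set s := z * z with hs
  have hzs : z * s = s * z := (Commute.refl z).mul_right (Commute.refl z)
  have h1 := comm_fix hV hb hz hzs b
  have h2 : z • (s • b) = b + s • b + z • b := by
    rw [← h1, smul_add, add_comm (z • b) (z • s • b), add_assoc, hV, add_zero]
  have hsa : s • (b + z • b) = b + z • b := by
    rw [smul_add, ← mul_smul s z, ← hzs, mul_smul z s, h2]
    calc s • b + (b + s • b + z • b) = (s • b + s • b) + (b + z • b) := by abel
      _ = b + z • b := by rw [hV, zero_add]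
  have key : z • (b + z • b) - (b + z • b) = s • b - b := by
    rw [sub_two hV, sub_two hV, smul_add, ← mul_smul, ← hs]
    calc z • b + s • b + (b + z • b) = (s • b + b) + (z • b + z • b) := by abel
      _ = s • b + b := by rw [hV, add_zero]
  have h3 := fix_of_sub_eq hb hsa key
  rw [h3, sub_self] at key
  exact sub_eq_zero.mp key.symm

theorem sq_eq_one [FaithfulSMul H V] : ∀ (n : ℕ) {x : H}, x ^ 2 ^ n = 1 → x * x = 1
  | 0, x, h => by simp_all
  | 1, x, h => by simpa [sq] using h
  | n + 2, x, h => by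
    refine sq_eq_one (n + 1) ?_
    have h4 : (x ^ 2 ^ n * x ^ 2 ^ n) * (x ^ 2 ^ n * x ^ 2 ^ n) = 1 := by
      rw [← pow_add, ← pow_add, ← h]
      congr 1
      ring
    have := sq_of_four hV hb h4
    rw [← this, ← pow_add]
    congr 1
    ring

variable [Finite H] [FaithfulSMul H V] (S : Sylow 2 H)

theorem sylow_sq {x : H} (hx : x ∈ (S : Subgroup H)) : x * x = 1 := by
  obtain ⟨k, hk⟩ := S.2 ⟨x, hx⟩
  exact sq_eq_one hV hb k (by simpa [Subtype.ext_iff] using hk)

theorem sylow_comm {x y : H} (hx : x ∈ (S : Subgroup H)) (hy : y ∈ (S : Subgroup H)) :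
    x * y = y * x := by
  have e : ∀ z ∈ (S : Subgroup H), z⁻¹ = z := fun z hz =>
    inv_eq_of_mul_eq_one_right (sylow_sq hV hb S hz)
  calc x * y = (x * y)⁻¹ := (e _ (mul_mem hx hy)).symm
    _ = y⁻¹ * x⁻¹ := mul_inv_rev _ _
    _ = y * x := by rw [e x hx, e y hy]

/-- The normalizer of a Sylow `2`-subgroup fixes every vector that the subgroup fixes. -/
theorem normalizer_fix {a : V} (ha : ∀ s ∈ (S : Subgroup H), s • a = a) {h : H}
    (hh : h ∈ Subgroup.normalizer ((S : Subgroup H) : Set H)) : h • a = a := by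
  set y := h • a with hy
  have hySy : ∀ s ∈ (S : Subgroup H), s • y = y := fun s hs => by
    have : h⁻¹ * s * h ∈ (S : Subgroup H) := (Subgroup.mem_normalizer_iff''.mp hh s).mp hs
    have h2 := ha _ this
    rwa [mul_smul, mul_smul, inv_smul_eq_iff] at h2
  obtain ⟨t, hta, hty⟩ := swap hb (b := a) (y := y) ⟨h, rfl⟩
  let D : Subgroup H := MulAction.stabilizer H a ⊓ MulAction.stabilizer H y
  have hSD : (S : Subgroup H) ≤ D := fun s hs => ⟨ha s hs, hySy s hs⟩
  have hTD : ((t • S : Sylow 2 H) : Subgroup H) ≤ D := by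
    intro x hx
    rw [Sylow.coe_subgroup_smul] at hx
    obtain ⟨s, hs, rfl⟩ := hx
    refine ⟨?_, ?_⟩
    · show (t * s * t⁻¹) • a = a
      rw [mul_smul, mul_smul, inv_smul_eq_iff.mpr hty.symm, hySy s hs, hty]
    · show (t * s * t⁻¹) • y = y
      rw [mul_smul, mul_smul, inv_smul_eq_iff.mpr hta.symm, ha s hs, hta]
  obtain ⟨⟨w, hwa, hwy⟩, hw⟩ := MulAction.exists_smul_eq D (S.subtype hSD) ((t • S).subtype hTD)
  rw [Sylow.smul_subtype] at hw
  have hw' : w • S = t • S := Sylow.subtype_injective hw
  set n := w⁻¹ * t with hn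
  have hnS : n • S = S := by rw [hn, mul_smul, ← hw', inv_smul_smul]
  have hnN := Sylow.smul_eq_iff_mem_normalizer.mp hnS
  have hna : n • a = y := by
    rw [hn, mul_smul, hta, inv_smul_eq_iff]
    exact hwy.symm
  have hny : n • y = a := by
    rw [hn, mul_smul, hty, inv_smul_eq_iff]
    exact hwa.symm
  let N := Subgroup.normalizer ((S : Subgroup H) : Set H)
  let S' : Sylow 2 N := S.subtype Subgroup.le_normalizer
  have : (S' : Subgroup N).Normal := Subgroup.normal_in_normalizer
  have hodd : ¬ 2 ∣ (S' : Subgroup N).index := S'.not_dvd_index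
  have hmem : (⟨n, hnN⟩ : N) ^ (S' : Subgroup N).index ∈ (S' : Subgroup N) := by
    rw [← QuotientGroup.eq_one_iff, QuotientGroup.mk_pow, Subgroup.index_eq_card]
    exact pow_card_eq_one'
  obtain ⟨j, hj⟩ := Nat.odd_iff.mpr (Nat.two_dvd_ne_zero.mp hodd)
  have hmem' : n ^ (2 * j + 1) ∈ (S : Subgroup H) := by
    rw [← hj]
    exact hmem
  have hpow : ∀ i : ℕ, n ^ (2 * i + 1) • a = y := fun i => by
    induction i with
    | zero => simpa using hna
    | succ i ih =>
      rw [show 2 * (i + 1) + 1 = 2 + (2 * i + 1) by ring, pow_add, mul_smul, ih, sq, mul_smul,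
        hny, hna]
  exact (hpow j).symm.trans (ha _ hmem')

/-- A Sylow `2`-subgroup is central in its normalizer. -/
theorem normalizer_le_centralizer :
    Subgroup.normalizer ((S : Subgroup H) : Set H) ≤
      Subgroup.centralizer ((S : Subgroup H) : Set H) := by
  intro h hh
  rw [Subgroup.mem_centralizer_iff]
  intro s hs
  set σ := h⁻¹ * s * h with hσ
  have hσS : σ ∈ (S : Subgroup H) := (Subgroup.mem_normalizer_iff''.mp hh s).mp hs
  have hrS : s * σ ∈ (S : Subgroup H) := mul_mem hs hσS
  suffices hr : s * σ = 1 by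
    have h1 : σ = s := by
      rw [eq_inv_of_mul_eq_one_right hr, inv_eq_of_mul_eq_one_right (sylow_sq hV hb S hs)]
    calc s * h = h * σ := by rw [hσ]; group
      _ = h * s := by rw [h1]
  refine FaithfulSMul.eq_of_smul_eq_smul (α := V) fun x => ?_
  rw [one_smul]
  have hfix : ∀ r ∈ (S : Subgroup H), ∀ g ∈ (S : Subgroup H), g • (x + r • x) = x + r • x :=
    fun r hr g hg => comm_fix hV hb (sylow_sq hV hb S hr) (sylow_comm hV hb S hg hr) x
  have hdec : ∀ r ∈ (S : Subgroup H), r • x = x + (x + r • x) := fun r _ => by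
    rw [← add_assoc, hV, zero_add]
  set v := x + (s * σ) • x with hv
  set u := x + σ • x with hu
  have hhv : h • v = v := normalizer_fix hV hb S (hfix _ hrS) hh
  have hhu : h • u = u := normalizer_fix hV hb S (hfix _ hσS) hh
  have hsu : s • u = u := hfix _ hσS s hs
  have hvu : v = (x + s • x) + u := by
    rw [hv, mul_smul, hdec σ hσS, ← hu, smul_add, hsu, add_assoc]
  have hsx : s • (h • x) = h • x + u := by
    rw [← mul_smul, show s * h = h * σ by rw [hσ]; group, mul_smul, hdec σ hσS, ← hu, smul_add, hhu]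
  have hc := par hb (a := x) (b := h • x) (c := x + h • x + v)
    ⟨s, by rw [smul_add, hsx, hdec s hs, hvu]; abel⟩
    ⟨h * (s * σ) * h⁻¹, by
      rw [mul_smul, mul_smul, inv_smul_smul, hdec _ hrS, ← hv, smul_add, hhv]; abel⟩
    ⟨s * σ, by rw [hdec _ hrS, ← hv]; abel⟩
  rw [hdec _ hrS, ← hv, add_eq_left.mp hc, add_zero]

/-- The normal `2`-complement. -/
theorem exists_complement : ∃ K : Subgroup H, K.Normal ∧ Odd (Nat.card K) ∧
    Subgroup.IsComplement' K (S : Subgroup H) := by
  have hP := normalizer_le_centralizer hV hb S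
  have hc := MonoidHom.ker_transferSylow_isComplement' S hP
  refine ⟨_, MonoidHom.normal_ker _, ?_, hc⟩
  rw [Nat.odd_iff, ← Nat.two_dvd_ne_zero, ← hc.index_eq_card]
  exact S.not_dvd_index

end

end Cfsg.Agent.Lib.BinaryAffine
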